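import Mathlib
import Cfsg.Agent.Lib.KleinGen
import Cfsg.Agent.Lib.PGroupCoprimeAction
set_option linter.all false

-- part: Classification/IdL3/Mat
section
/-!
Elementary facts on `GL (Fin 2) F`: root elements, diagonal matrices, Bruhat decomposition,
subgroups normalised by the diagonal torus.
-/

set_option autoImplicit false

namespace Cfsg.Agent.Classification.IdL3.Mat

open Matrix
open scoped MatrixGroups

variable {F : Type*} [Field F]

/-- Upper unipotent element. -/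
def U (c : F) : GL (Fin 2) F :=
  ⟨!![1, c; 0, 1], !![1, -c; 0, 1], by
    rw [Matrix.mul_fin_two, Matrix.one_fin_two]; simp, by
    rw [Matrix.mul_fin_two, Matrix.one_fin_two]; simp⟩

/-- Lower unipotent element. -/
def L (c : F) : GL (Fin 2) F :=
  ⟨!![1, 0; c, 1], !![1, 0; -c, 1], by
    rw [Matrix.mul_fin_two, Matrix.one_fin_two]; simp, by
    rw [Matrix.mul_fin_two, Matrix.one_fin_two]; simp⟩

/-- Diagonal element. -/
def T (a b : Fˣ) : GL (Fin 2) F :=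
  ⟨!![(a : F), 0; 0, (b : F)], !![((a⁻¹ : Fˣ) : F), 0; 0, ((b⁻¹ : Fˣ) : F)], by
    rw [Matrix.mul_fin_two, Matrix.one_fin_two]; simp, by
    rw [Matrix.mul_fin_two, Matrix.one_fin_two]; simp⟩

/-- The reflection matrix. -/
def W : GL (Fin 2) F :=
  ⟨!![0, 1; 1, 0], !![0, 1; 1, 0], by
    rw [Matrix.mul_fin_two, Matrix.one_fin_two]; simp, by
    rw [Matrix.mul_fin_two, Matrix.one_fin_two]; simp⟩

theorem ext4 {g h : GL (Fin 2) F} (h00 : g.1 0 0 = h.1 0 0) (h01 : g.1 0 1 = h.1 0 1)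
    (h10 : g.1 1 0 = h.1 1 0) (h11 : g.1 1 1 = h.1 1 1) : g = h := by
  apply Units.ext
  ext i j
  fin_cases i <;> fin_cases j
  · exact h00
  · exact h01
  · exact h10
  · exact h11

theorem mul_val (g h : GL (Fin 2) F) (i j : Fin 2) :
    (g * h).1 i j = g.1 i 0 * h.1 0 j + g.1 i 1 * h.1 1 j := by
  rw [Units.val_mul, Matrix.mul_apply, Fin.sum_univ_two]

@[simp] theorem one_00 : (1 : GL (Fin 2) F).1 0 0 = 1 := by simp
@[simp] theorem one_01 : (1 : GL (Fin 2) F).1 0 1 = 0 := by simp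
@[simp] theorem one_10 : (1 : GL (Fin 2) F).1 1 0 = 0 := by simp
@[simp] theorem one_11 : (1 : GL (Fin 2) F).1 1 1 = 1 := by simp

@[simp] theorem U_00 (c : F) : (U c).1 0 0 = 1 := rfl
@[simp] theorem U_01 (c : F) : (U c).1 0 1 = c := rfl
@[simp] theorem U_10 (c : F) : (U c).1 1 0 = 0 := rfl
@[simp] theorem U_11 (c : F) : (U c).1 1 1 = 1 := rfl
@[simp] theorem L_00 (c : F) : (L c).1 0 0 = 1 := rfl
@[simp] theorem L_01 (c : F) : (L c).1 0 1 = 0 := rfl
@[simp] theorem L_10 (c : F) : (L c).1 1 0 = c := rfl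
@[simp] theorem L_11 (c : F) : (L c).1 1 1 = 1 := rfl
@[simp] theorem T_00 (a b : Fˣ) : (T a b).1 0 0 = a := rfl
@[simp] theorem T_01 (a b : Fˣ) : (T a b).1 0 1 = 0 := rfl
@[simp] theorem T_10 (a b : Fˣ) : (T a b).1 1 0 = 0 := rfl
@[simp] theorem T_11 (a b : Fˣ) : (T a b).1 1 1 = b := rfl
@[simp] theorem W_00 : (W : GL (Fin 2) F).1 0 0 = 0 := rfl
@[simp] theorem W_01 : (W : GL (Fin 2) F).1 0 1 = 1 := rfl
@[simp] theorem W_10 : (W : GL (Fin 2) F).1 1 0 = 1 := rfl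
@[simp] theorem W_11 : (W : GL (Fin 2) F).1 1 1 = 0 := rfl

theorem U_mul (a b : F) : U a * U b = U (a + b) := by
  apply ext4 <;> simp only [mul_val, U_00, U_01, U_10, U_11] <;> ring

theorem L_mul (a b : F) : L a * L b = L (a + b) := by
  apply ext4 <;> simp only [mul_val, L_00, L_01, L_10, L_11] <;> ring

theorem U_zero : U (0 : F) = 1 := by
  apply ext4 <;> simp

theorem L_zero : L (0 : F) = 1 := by
  apply ext4 <;> simp

theorem U_inv (a : F) : (U a)⁻¹ = U (-a) := by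
  rw [inv_eq_iff_mul_eq_one, U_mul, add_neg_cancel, U_zero]

theorem L_inv (a : F) : (L a)⁻¹ = L (-a) := by
  rw [inv_eq_iff_mul_eq_one, L_mul, add_neg_cancel, L_zero]

theorem U_injective : Function.Injective (U : F → GL (Fin 2) F) := fun a b h => by
  have := congrArg (fun g : GL (Fin 2) F => g.1 0 1) h
  simpa using this

theorem L_injective : Function.Injective (L : F → GL (Fin 2) F) := fun a b h => by
  have := congrArg (fun g : GL (Fin 2) F => g.1 1 0) h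
  simpa using this

theorem T_mul (a b a' b' : Fˣ) : T a b * T a' b' = T (a * a') (b * b') := by
  apply ext4 <;> simp [mul_val]

theorem T_one : T (1 : Fˣ) 1 = 1 := by
  apply ext4 <;> simp

theorem T_inv (a b : Fˣ) : (T a b)⁻¹ = T a⁻¹ b⁻¹ := by
  rw [inv_eq_iff_mul_eq_one, T_mul]; simp [T_one]

theorem T_U (a b : Fˣ) (c : F) : T a b * U c * (T a b)⁻¹ = U (a * c * ((b⁻¹ : Fˣ) : F)) := by
  rw [mul_inv_eq_iff_eq_mul]
  apply ext4 <;> simp [mul_val, mul_assoc]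

theorem T_L (a b : Fˣ) (c : F) : T a b * L c * (T a b)⁻¹ = L (b * c * ((a⁻¹ : Fˣ) : F)) := by
  rw [mul_inv_eq_iff_eq_mul]
  apply ext4 <;> simp [mul_val, mul_assoc]

theorem W_mul_W : (W : GL (Fin 2) F) * W = 1 := by
  apply ext4 <;> simp [mul_val]

theorem W_inv : (W : GL (Fin 2) F)⁻¹ = W := by
  rw [inv_eq_iff_mul_eq_one, W_mul_W]

theorem W_U (c : F) : W * U c * W⁻¹ = L c := by
  rw [mul_inv_eq_iff_eq_mul]
  apply ext4 <;> simp [mul_val]

theorem W_L (c : F) : W * L c * W⁻¹ = U c := by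
  rw [mul_inv_eq_iff_eq_mul]
  apply ext4 <;> simp [mul_val]

theorem W_T (a b : Fˣ) : W * T a b * W⁻¹ = T b a := by
  rw [mul_inv_eq_iff_eq_mul]
  apply ext4 <;> simp [mul_val]

/-- The Weyl element of `SL2`. -/
theorem ULU (c : Fˣ) : U (c : F) * L (-((c⁻¹ : Fˣ) : F)) * U (c : F) = T c (-c⁻¹) * W := by
  apply ext4 <;> simp [mul_val]

theorem LUL (c : Fˣ) : L (c : F) * U (-((c⁻¹ : Fˣ) : F)) * L (c : F) = T (-c⁻¹) c * W := by
  apply ext4 <;> simp [mul_val]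

theorem det_eq (g : GL (Fin 2) F) : g.1.det = g.1 0 0 * g.1 1 1 - g.1 0 1 * g.1 1 0 :=
  Matrix.det_fin_two g.1

theorem det_ne (g : GL (Fin 2) F) : g.1 0 0 * g.1 1 1 - g.1 0 1 * g.1 1 0 ≠ 0 := by
  rw [← det_eq]
  exact (Matrix.isUnit_iff_isUnit_det _ |>.mp g.isUnit).ne_zero

/-- Bruhat decomposition. -/
theorem eq_UT (g : GL (Fin 2) F) (h : g.1 1 0 = 0) : ∃ (x : F) (a b : Fˣ), g = U x * T a b := by
  have hd := det_ne g
  rw [h, mul_zero, sub_zero] at hd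
  have ha := left_ne_zero_of_mul hd
  have hb := right_ne_zero_of_mul hd
  refine ⟨g.1 0 1 / g.1 1 1, Units.mk0 _ ha, Units.mk0 _ hb, ?_⟩
  apply ext4 <;> simp [mul_val, h, hb]

theorem eq_UTWU (g : GL (Fin 2) F) (h : g.1 1 0 ≠ 0) :
    ∃ (x y : F) (a b : Fˣ), g = U x * T a b * W * U y := by
  have hd := det_ne g
  have ha : g.1 0 1 - g.1 0 0 * g.1 1 1 / g.1 1 0 ≠ 0 := by
    intro h0
    apply hd
    field_simp at h0
    linear_combination -h0
  refine ⟨g.1 0 0 / g.1 1 0, g.1 1 1 / g.1 1 0, Units.mk0 _ ha, Units.mk0 _ h, ?_⟩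
  apply ext4
  · simp [mul_val, h]
  · simp [mul_val]
    field_simp
    ring
  · simp [mul_val]
  · simp [mul_val]
    field_simp

end Cfsg.Agent.Classification.IdL3.Mat
end

-- part: Classification/IdL3/MatTwo
section
/-!
Centralizers, subgroups normalised by the diagonal torus, subgroups of odd order of `GL (Fin 2) F`.
-/

set_option autoImplicit false
set_option linter.unusedSimpArgs false

namespace Cfsg.Agent.Classification.IdL3.MatTwo

open Matrix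
open scoped MatrixGroups
open Cfsg.Agent.Classification.IdL3.Mat

variable {F : Type*} [Field F]

/-- a matrix commuting with `U 1` and `L 1` is scalar. -/
theorem scalar_of_comm {g : GL (Fin 2) F} (hU : g * U 1 = U 1 * g) (hL : g * L 1 = L 1 * g) :
    ∃ a : Fˣ, g = T a a := by
  have h1 := congrArg (fun k : GL (Fin 2) F => k.1 0 0) hU
  have h2 := congrArg (fun k : GL (Fin 2) F => k.1 0 1) hU
  have h3 := congrArg (fun k : GL (Fin 2) F => k.1 0 0) hL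
  simp only [mul_val, U_00, U_01, U_10, U_11, L_00, L_01, L_10, L_11, mul_one, mul_zero, one_mul,
    add_zero, zero_mul, zero_add] at h1 h2 h3
  have hc : g.1 1 0 = 0 := by linear_combination -h1
  have hb : g.1 0 1 = 0 := by linear_combination h3
  have had : g.1 0 0 = g.1 1 1 := by linear_combination h2
  have hd := det_ne g
  rw [hc, mul_zero, sub_zero] at hd
  refine ⟨Units.mk0 _ (left_ne_zero_of_mul hd), ?_⟩
  apply ext4 <;> simp [hc, hb, had]

theorem scalar_of_center {g : GL (Fin 2) F} (hg : g ∈ Subgroup.center (GL (Fin 2) F)) :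
    ∃ a : Fˣ, g = T a a := by
  rw [Subgroup.mem_center_iff] at hg
  exact scalar_of_comm (hg (U 1)).symm (hg (L 1)).symm

theorem T_self_comm (a : Fˣ) (g : GL (Fin 2) F) : T a a * g = g * T a a := by
  apply ext4 <;> simp [mul_val, mul_comm]

/-- a matrix commuting with `T 1 (-1)` is diagonal. -/
theorem diag_of_comm (h2 : (2 : F) ≠ 0) {g : GL (Fin 2) F} (h : g * T 1 (-1) = T 1 (-1) * g) :
    ∃ a b : Fˣ, g = T a b := by
  have h1 := congrArg (fun k : GL (Fin 2) F => k.1 0 1) h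
  have h3 := congrArg (fun k : GL (Fin 2) F => k.1 1 0) h
  simp only [mul_val, T_00, T_01, T_10, T_11, Units.val_neg, Units.val_one, mul_one, mul_zero,
    one_mul, add_zero, zero_mul, zero_add] at h1 h3
  have hb : g.1 0 1 = 0 := by
    have : (2 : F) * g.1 0 1 = 0 := by linear_combination -h1
    exact (mul_eq_zero.mp this).resolve_left h2
  have hc : g.1 1 0 = 0 := by
    have : (2 : F) * g.1 1 0 = 0 := by linear_combination h3
    exact (mul_eq_zero.mp this).resolve_left h2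
  have hd := det_ne g
  rw [hc, mul_zero, sub_zero] at hd
  refine ⟨Units.mk0 _ (left_ne_zero_of_mul hd), Units.mk0 _ (right_ne_zero_of_mul hd), ?_⟩
  apply ext4 <;> simp [hc, hb]

/-- a matrix commuting with `U c`, `c ≠ 0`. -/
theorem of_comm_U {c : F} (hc : c ≠ 0) {g : GL (Fin 2) F} (h : g * U c = U c * g) :
    ∃ (x : F) (a : Fˣ), g = U x * T a a := by
  have h1 := congrArg (fun k : GL (Fin 2) F => k.1 0 0) h
  have h2 := congrArg (fun k : GL (Fin 2) F => k.1 0 1) h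
  simp only [mul_val, U_00, U_01, U_10, U_11, mul_one, mul_zero, one_mul,
    add_zero, zero_mul, zero_add] at h1 h2
  have h10 : g.1 1 0 = 0 := by
    have : c * g.1 1 0 = 0 := by linear_combination -h1
    exact (mul_eq_zero.mp this).resolve_left hc
  have had : g.1 0 0 = g.1 1 1 := by
    have : c * (g.1 0 0 - g.1 1 1) = 0 := by linear_combination h2
    exact sub_eq_zero.mp ((mul_eq_zero.mp this).resolve_left hc)
  obtain ⟨x, a, b, rfl⟩ := eq_UT g h10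
  refine ⟨x, a, ?_⟩
  have : a = b := by
    apply Units.ext
    simpa [mul_val] using had
  rw [this]

theorem T_comm_U {a b : Fˣ} {c : F} (hc : c ≠ 0) (h : T a b * U c = U c * T a b) : a = b := by
  have h2 := congrArg (fun k : GL (Fin 2) F => k.1 0 1) h
  simp only [mul_val, U_00, U_01, U_10, U_11, T_00, T_01, T_10, T_11, mul_one, mul_zero, one_mul,
    add_zero, zero_mul, zero_add] at h2
  apply Units.ext
  have : c * ((a : F) - b) = 0 := by linear_combination h2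
  exact sub_eq_zero.mp ((mul_eq_zero.mp this).resolve_left hc)

/-- A matrix given by its entries. -/
noncomputable def mk4 (a b c d : F) (h : a * d - b * c ≠ 0) : GL (Fin 2) F :=
  Matrix.GeneralLinearGroup.mkOfDetNeZero !![a, b; c, d] (by rwa [Matrix.det_fin_two_of])

theorem mk4_00 {a b c d : F} (h : a * d - b * c ≠ 0) : (mk4 a b c d h).1 0 0 = a := rfl
theorem mk4_01 {a b c d : F} (h : a * d - b * c ≠ 0) : (mk4 a b c d h).1 0 1 = b := rfl
theorem mk4_10 {a b c d : F} (h : a * d - b * c ≠ 0) : (mk4 a b c d h).1 1 0 = c := rfl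
theorem mk4_11 {a b c d : F} (h : a * d - b * c ≠ 0) : (mk4 a b c d h).1 1 1 = d := rfl

/-- Involutory matrices other than `1`, `-1` are conjugate to `T 1 (-1)`. -/
theorem conj_of_sq {g : GL (Fin 2) F} (h2 : (2 : F) ≠ 0) (hg : g * g = 1) (h1 : g ≠ 1)
    (h1' : g ≠ T (-1) (-1)) : ∃ h : GL (Fin 2) F, h * g * h⁻¹ = T 1 (-1) := by
  have e00 := congrArg (fun k : GL (Fin 2) F => k.1 0 0) hg
  have e01 := congrArg (fun k : GL (Fin 2) F => k.1 0 1) hg
  have e10 := congrArg (fun k : GL (Fin 2) F => k.1 1 0) hg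
  have e11 := congrArg (fun k : GL (Fin 2) F => k.1 1 1) hg
  simp only [mul_val, one_00, one_01, one_10, one_11] at e00 e01 e10 e11
  -- trace is zero
  have htr : g.1 0 0 + g.1 1 1 = 0 := by
    by_contra htr
    have hb : g.1 0 1 = 0 := by
      have : g.1 0 1 * (g.1 0 0 + g.1 1 1) = 0 := by linear_combination e01
      exact (mul_eq_zero.mp this).resolve_right htr
    have hc : g.1 1 0 = 0 := by
      have : g.1 1 0 * (g.1 0 0 + g.1 1 1) = 0 := by linear_combination e10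
      exact (mul_eq_zero.mp this).resolve_right htr
    have had : g.1 0 0 = g.1 1 1 := by
      have : (g.1 0 0 - g.1 1 1) * (g.1 0 0 + g.1 1 1) = 0 := by linear_combination e00 - e11
      exact sub_eq_zero.mp ((mul_eq_zero.mp this).resolve_right htr)
    have ha : (g.1 0 0 - 1) * (g.1 0 0 + 1) = 0 := by
      rw [hb] at e00
      linear_combination e00
    rcases mul_eq_zero.mp ha with h | h
    · apply h1
      have h' : g.1 0 0 = 1 := sub_eq_zero.mp h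
      apply ext4 <;> simp [h', hb, hc, ← had]
    · apply h1'
      have h' : g.1 0 0 = -1 := eq_neg_of_add_eq_zero_left h
      apply ext4 <;> simp [h', hb, hc, ← had]
  have hd : g.1 1 1 = -g.1 0 0 := by linear_combination htr
  have hdet : g.1 0 0 * g.1 0 0 + g.1 0 1 * g.1 1 0 = 1 := e00
  by_cases hb : g.1 0 1 = 0
  · by_cases hc : g.1 1 0 = 0
    · have ha : (g.1 0 0 - 1) * (g.1 0 0 + 1) = 0 := by
        rw [hb] at e00
        linear_combination e00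
      rcases mul_eq_zero.mp ha with h | h
      · refine ⟨1, ?_⟩
        have h' : g.1 0 0 = 1 := sub_eq_zero.mp h
        rw [one_mul, inv_one, mul_one]
        apply ext4 <;> simp [h', hb, hc, hd]
      · refine ⟨W, ?_⟩
        have h' : g.1 0 0 = -1 := eq_neg_of_add_eq_zero_left h
        have : g = T (-1) 1 := by apply ext4 <;> simp [h', hb, hc, hd]
        rw [this, W_T]
    · have hdet' : g.1 1 0 * -(1 + g.1 0 0) - (1 - g.1 0 0) * g.1 1 0 ≠ 0 := by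
        have : g.1 1 0 * -(1 + g.1 0 0) - (1 - g.1 0 0) * g.1 1 0 = -(2 * g.1 1 0) := by ring
        rw [this]
        exact neg_ne_zero.mpr (mul_ne_zero h2 hc)
      refine ⟨mk4 (g.1 1 0) (1 - g.1 0 0) (g.1 1 0) (-(1 + g.1 0 0)) hdet', ?_⟩
      rw [mul_inv_eq_iff_eq_mul]
      apply ext4 <;>
        simp only [mul_val, mk4_00, mk4_01, mk4_10, mk4_11, T_00, T_01, T_10, T_11,
          Units.val_one, Units.val_neg]
      · ring
      · rw [hd]; linear_combination hdet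
      · ring
      · rw [hd]; linear_combination hdet
  · have hdet' : (1 + g.1 0 0) * g.1 0 1 - g.1 0 1 * (g.1 0 0 - 1) ≠ 0 := by
      have : (1 + g.1 0 0) * g.1 0 1 - g.1 0 1 * (g.1 0 0 - 1) = 2 * g.1 0 1 := by ring
      rw [this]
      exact mul_ne_zero h2 hb
    refine ⟨mk4 (1 + g.1 0 0) (g.1 0 1) (g.1 0 0 - 1) (g.1 0 1) hdet', ?_⟩
    rw [mul_inv_eq_iff_eq_mul]
    apply ext4 <;>
      simp only [mul_val, mk4_00, mk4_01, mk4_10, mk4_11, T_00, T_01, T_10, T_11,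
        Units.val_one, Units.val_neg]
    · linear_combination hdet
    · rw [hd]; ring
    · linear_combination hdet
    · rw [hd]; ring

end Cfsg.Agent.Classification.IdL3.MatTwo
end

-- part: Classification/IdL3/MatThree
section
/-!
Subgroups of `GL (Fin 2) F` normalised by the diagonal torus; subgroups of odd order.
-/

set_option autoImplicit false
set_option linter.unusedSimpArgs false

namespace Cfsg.Agent.Classification.IdL3.MatThree

open Matrix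
open scoped MatrixGroups
open Cfsg.Agent.Classification.IdL3.Mat
open Cfsg.Agent.Classification.IdL3.MatTwo

variable {F : Type*} [Field F]

theorem unip_entries {p : ℕ} [Fact p.Prime] [CharP F p] {g : GL (Fin 2) F} {k : ℕ}
    (hg : g ^ p ^ k = 1) :
    g.1 0 0 + g.1 1 1 = 2 ∧ (g.1 0 0 - 1) * (g.1 1 1 - 1) = g.1 0 1 * g.1 1 0 := by
  have hN : (g.1 - 1) ^ p ^ k = 0 := by
    have hc : Commute g.1 (1 : Matrix (Fin 2) (Fin 2) F) := Commute.one_right _
    rw [sub_pow_char_pow_of_commute _ _ hc, one_pow, ← Units.val_pow_eq_pow_val, hg,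
      Units.val_one, sub_self]
  have hnil : IsNilpotent (g.1 - 1) := ⟨_, hN⟩
  have htr := Matrix.isNilpotent_trace_of_isNilpotent hnil
  rw [isNilpotent_iff_eq_zero] at htr
  have hdet : (g.1 - 1).det = 0 := by
    have : (g.1 - 1).det ^ p ^ k = 0 := by
      rw [← Matrix.det_pow, hN, Matrix.det_zero]
    exact pow_eq_zero_iff (pow_ne_zero _ (Fact.out : p.Prime).ne_zero) |>.mp this
  rw [Matrix.trace_fin_two] at htr
  rw [Matrix.det_fin_two] at hdet
  simp only [Matrix.sub_apply, Matrix.one_apply_eq, Matrix.one_apply_ne, ne_eq, zero_ne_one,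
    not_false_eq_true, one_ne_zero, sub_zero] at htr hdet
  constructor
  · linear_combination htr
  · linear_combination hdet

/-- Torus lemma. -/
theorem torus {p : ℕ} [Fact p.Prime] [CharP F p] (h2 : (2 : F) ≠ 0) (M : Subgroup (GL (Fin 2) F))
    (hT : ∀ (a b : Fˣ), ∀ g ∈ M, T a b * g * (T a b)⁻¹ ∈ M) {g : GL (Fin 2) F} (hgM : g ∈ M)
    (hg1 : g ≠ 1) {k : ℕ} (hg : g ^ p ^ k = 1) : (∀ c, U c ∈ M) ∨ (∀ c, L c ∈ M) := by
  obtain ⟨htr, hdet⟩ := unip_entries hg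
  -- a nontrivial `U c` or `L c` is enough
  have hU : ∀ y : F, y ≠ 0 → U y ∈ M → ∀ c, U c ∈ M := by
    intro y hy hm c
    by_cases hc : c = 0
    · rw [hc, U_zero]; exact M.one_mem
    · have h := hT (Units.mk0 (c / y) (div_ne_zero hc hy)) 1 _ hm
      rw [T_U] at h
      simpa [hy] using h
  have hL : ∀ y : F, y ≠ 0 → L y ∈ M → ∀ c, L c ∈ M := by
    intro y hy hm c
    by_cases hc : c = 0
    · rw [hc, L_zero]; exact M.one_mem
    · have h := hT 1 (Units.mk0 (c / y) (div_ne_zero hc hy)) _ hm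
      rw [T_L] at h
      simpa [hy] using h
  -- unipotent elements with a zero off-diagonal entry
  have hU' : ∀ k : GL (Fin 2) F, k.1 0 0 + k.1 1 1 = 2 →
      (k.1 0 0 - 1) * (k.1 1 1 - 1) = k.1 0 1 * k.1 1 0 → k ≠ 1 → k ∈ M → k.1 1 0 = 0 →
      ∀ c, U c ∈ M := by
    intro k h1 h3 hk1 hkM h10
    have hx : (k.1 0 0 - 1) * (k.1 0 0 - 1) = 0 := by
      rw [h10] at h3
      linear_combination (k.1 0 0 - 1) * h1 - h3
    have h00 : k.1 0 0 = 1 := sub_eq_zero.mp (mul_self_eq_zero.mp hx)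
    have h11 : k.1 1 1 = 1 := by linear_combination h1 - h00
    have hk : k = U (k.1 0 1) := by apply ext4 <;> simp [h00, h11, h10]
    refine hU (k.1 0 1) (fun h0 => hk1 ?_) (hk ▸ hkM)
    rw [hk, h0, U_zero]
  have hL' : ∀ k : GL (Fin 2) F, k.1 0 0 + k.1 1 1 = 2 →
      (k.1 0 0 - 1) * (k.1 1 1 - 1) = k.1 0 1 * k.1 1 0 → k ≠ 1 → k ∈ M → k.1 0 1 = 0 →
      ∀ c, L c ∈ M := by
    intro k h1 h3 hk1 hkM h10
    have hx : (k.1 0 0 - 1) * (k.1 0 0 - 1) = 0 := by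
      rw [h10] at h3
      linear_combination (k.1 0 0 - 1) * h1 - h3
    have h00 : k.1 0 0 = 1 := sub_eq_zero.mp (mul_self_eq_zero.mp hx)
    have h11 : k.1 1 1 = 1 := by linear_combination h1 - h00
    have hk : k = L (k.1 1 0) := by apply ext4 <;> simp [h00, h11, h10]
    refine hL (k.1 1 0) (fun h0 => hk1 ?_) (hk ▸ hkM)
    rw [hk, h0, L_zero]
  by_cases hz : g.1 1 0 = 0
  · exact Or.inl (hU' g htr hdet hg1 hgM hz)
  by_cases hy : g.1 0 1 = 0
  · exact Or.inr (hL' g htr hdet hg1 hgM hy)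
  -- general case
  set x := g.1 0 0 - 1 with hx
  set y := g.1 0 1 with hydef
  set z := g.1 1 0 with hzdef
  have e00 : g.1 0 0 = 1 + x := by rw [hx]; ring
  have e11 : g.1 1 1 = 1 - x := by rw [hx]; linear_combination htr
  have hxyz : x * x = -(y * z) := by
    have : (g.1 0 0 - 1) * (g.1 1 1 - 1) = y * z := hdet
    rw [e00, e11] at this
    linear_combination -this
  have hx0 : x ≠ 0 := by
    intro h0
    rw [h0, mul_zero] at hxyz
    exact mul_ne_zero hy hz (neg_eq_zero.mp hxyz.symm)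
  have gi00 : (g⁻¹).1 0 0 = 1 - x := by
    have h1 : (g⁻¹).1 = g.1⁻¹ := Matrix.coe_units_inv g
    rw [h1, Matrix.inv_def, Matrix.smul_apply, Matrix.adjugate_fin_two]
    have hd : g.1.det = 1 := by
      rw [det_eq, e00, e11]; linear_combination -hxyz
    rw [hd]; simp [e11]
  have gi01 : (g⁻¹).1 0 1 = -y := by
    have h1 : (g⁻¹).1 = g.1⁻¹ := Matrix.coe_units_inv g
    rw [h1, Matrix.inv_def, Matrix.smul_apply, Matrix.adjugate_fin_two]
    have hd : g.1.det = 1 := by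
      rw [det_eq, e00, e11]; linear_combination -hxyz
    rw [hd]; simp [hydef]
  have gi10 : (g⁻¹).1 1 0 = -z := by
    have h1 : (g⁻¹).1 = g.1⁻¹ := Matrix.coe_units_inv g
    rw [h1, Matrix.inv_def, Matrix.smul_apply, Matrix.adjugate_fin_two]
    have hd : g.1.det = 1 := by
      rw [det_eq, e00, e11]; linear_combination -hxyz
    rw [hd]; simp [hzdef]
  have gi11 : (g⁻¹).1 1 1 = 1 + x := by
    have h1 : (g⁻¹).1 = g.1⁻¹ := Matrix.coe_units_inv g
    rw [h1, Matrix.inv_def, Matrix.smul_apply, Matrix.adjugate_fin_two]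
    have hd : g.1.det = 1 := by
      rw [det_eq, e00, e11]; linear_combination -hxyz
    rw [hd]; simp [e00]
  -- the conjugate by `T 1 r`
  have key : ∀ r : Fˣ, ∀ m : GL (Fin 2) F, m = g * (T 1 r * g * (T 1 r)⁻¹) * g⁻¹ →
      m ∈ M ∧ m ≠ 1 ∧ m.1 0 0 + m.1 1 1 = 2 ∧
      (m.1 0 0 - 1) * (m.1 1 1 - 1) = m.1 0 1 * m.1 1 0 ∧
      m.1 1 0 = z * ((r⁻¹ : Fˣ) : F) * ((1 - x) * r + x) ^ 2 ∧
      m.1 0 1 = y * ((r⁻¹ : Fˣ) : F) * (x * r - (1 + x)) ^ 2 := by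
    intro r m hm
    have hm1 : m ≠ 1 := by
      intro h1
      rw [h1] at hm
      have : T 1 r * g * (T 1 r)⁻¹ = 1 := by
        have h3 : g⁻¹ * (g * (T 1 r * g * (T 1 r)⁻¹) * g⁻¹) * g = g⁻¹ * 1 * g := by rw [← hm]
        rw [mul_one, inv_mul_cancel] at h3
        rw [← h3]; group
      rw [mul_inv_eq_one] at this
      exact hg1 (mul_left_cancel (this.trans (mul_one _).symm))
    have hpow : m ^ p ^ k = 1 := by
      rw [hm, conj_pow, conj_pow, hg]; group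
    obtain ⟨m1, m2⟩ := unip_entries hpow
    have hr : (r : F) * ((r⁻¹ : Fˣ) : F) = 1 := Units.mul_inv r
    refine ⟨?_, hm1, m1, m2, ?_, ?_⟩
    · rw [hm]
      exact M.mul_mem (M.mul_mem hgM (hT 1 r g hgM)) (M.inv_mem hgM)
    · rw [hm]
      simp only [mul_val, T_inv, T_00, T_01, T_10, T_11, inv_one, Units.val_one, e00, e11,
        ← hydef, ← hzdef, gi00, gi01, gi10, gi11]
      linear_combination (-(z * ((r⁻¹ : Fˣ) : F))) * hxyz +
        (-(z * (2 * x * (1 - x) + (1 - x) ^ 2 * r)) - z * (1 - x) ^ 2) * hr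
    · rw [hm]
      simp only [mul_val, T_inv, T_00, T_01, T_10, T_11, inv_one, Units.val_one, e00, e11,
        ← hydef, ← hzdef, gi00, gi01, gi10, gi11]
      linear_combination (-(y * r)) * hxyz +
        (y * (2 * x * (1 + x) - x ^ 2 * r) - y * (x ^ 2 - 1)) * hr
  by_cases hx1 : x = 1
  · -- use `r = 2`
    obtain ⟨m1, m2, m3, m4, _, m6⟩ := key (Units.mk0 2 h2) _ rfl
    refine Or.inr (hL' _ m3 m4 m2 m1 ?_)
    rw [m6, hx1]
    simp
    right
    norm_num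
  · have hr : x / (x - 1) ≠ 0 := div_ne_zero hx0 (sub_ne_zero.mpr hx1)
    obtain ⟨m1, m2, m3, m4, m5, _⟩ := key (Units.mk0 _ hr) _ rfl
    refine Or.inl (hU' _ m3 m4 m2 m1 ?_)
    rw [m5, Units.val_mk0]
    have hx1' := sub_ne_zero.mpr hx1
    have : (1 - x) * (x / (x - 1)) + x = 0 := by field_simp; ring
    rw [this]; simp

/-- A subgroup containing all `U c` but not `-1` is upper triangular. -/
theorem upper_of_not_mem (M : Subgroup (GL (Fin 2) F))
    (hM : T (-1) (-1) ∉ M) (hU : ∀ c, U c ∈ M) {g : GL (Fin 2) F} (hg : g ∈ M) :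
    g.1 1 0 = 0 := by
  by_contra h0
  obtain ⟨x, y, a, b, rfl⟩ := eq_UTWU g h0
  have hm : T a b * W ∈ M := by
    have h1 := M.mul_mem (M.mul_mem (M.inv_mem (hU x)) hg) (M.inv_mem (hU y))
    have h3 : (U x)⁻¹ * (U x * T a b * W * U y) * (U y)⁻¹ = T a b * W := by group
    rwa [h3] at h1
  have hL : ∀ c, L (b * c * ((a⁻¹ : Fˣ) : F)) ∈ M := by
    intro c
    have h1 := M.mul_mem (M.mul_mem hm (hU c)) (M.inv_mem hm)
    have h3 : T a b * W * U c * (T a b * W)⁻¹ = T a b * (W * U c * W⁻¹) * (T a b)⁻¹ := by group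
    rwa [h3, W_U, T_L] at h1
  have hL1 : L (-1) ∈ M := by
    have := hL (-(a * ((b⁻¹ : Fˣ) : F)))
    have e : (b : F) * (-(a * ((b⁻¹ : Fˣ) : F))) * ((a⁻¹ : Fˣ) : F) = -1 := by
      have h1 : (b : F) * ((b⁻¹ : Fˣ) : F) = 1 := Units.mul_inv b
      have h3 : (a : F) * ((a⁻¹ : Fˣ) : F) = 1 := Units.mul_inv a
      linear_combination (-((a : F) * ((a⁻¹ : Fˣ) : F))) * h1 - h3
    rwa [e] at this
  have hw : T 1 (-1) * W ∈ M := by
    have := ULU (1 : Fˣ)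
    rw [inv_one, Units.val_one] at this
    rw [← this]
    exact M.mul_mem (M.mul_mem (hU 1) hL1) (hU 1)
  have ht : T (-1) (-1) ∈ M := by
    have h1 := M.mul_mem hw hw
    have h3 : T (1 : Fˣ) (-1) * W * (T 1 (-1) * W) = T (1 : Fˣ) (-1) * (W * T 1 (-1) * W⁻¹) * (W * W) := by
      group
    rw [h3, W_T, W_mul_W, mul_one, T_mul] at h1
    simpa using h1
  exact hM ht

/-- `p`-elements among upper triangular matrices. -/
theorem U_of_pow {p : ℕ} [Fact p.Prime] [CharP F p] {g : GL (Fin 2) F} {k : ℕ}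
    (hg : g ^ p ^ k = 1) (h10 : g.1 1 0 = 0) : ∃ c, g = U c := by
  obtain ⟨h1, h3⟩ := unip_entries hg
  have hx : (g.1 0 0 - 1) * (g.1 0 0 - 1) = 0 := by
    rw [h10] at h3
    linear_combination (g.1 0 0 - 1) * h1 - h3
  have h00 : g.1 0 0 = 1 := sub_eq_zero.mp (mul_self_eq_zero.mp hx)
  have h11 : g.1 1 1 = 1 := by linear_combination h1 - h00
  exact ⟨g.1 0 1, by apply ext4 <;> simp [h00, h11, h10]⟩

end Cfsg.Agent.Classification.IdL3.MatThree
end

-- part: Classification/IdL3/Setup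
section
/-!
Groups with an involution `t` whose centralizer is `GL (Fin 2) F / Z`, `Z` central of odd order,
together with an element `n` permuting cyclically the involutions of the diagonal four-group.

`A φ`, `B φ` (upper and lower root groups), `Ht φ` (diagonal torus), `Zc φ` (scalars), `tt φ` (the involution),
`cφ g φ` = `φ` followed by conjugation by `g`.
-/

set_option autoImplicit false
set_option linter.unusedSimpArgs false

namespace Cfsg.Agent.Classification.IdL3.Setup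

open Matrix
open scoped MatrixGroups
open Cfsg.Agent.Classification.IdL3.Mat
open Cfsg.Agent.Classification.IdL3.MatTwo
open Cfsg.Agent.Classification.IdL3.MatThree

variable {F : Type*} [Field F] {G : Type*} [Group G]

/-- subgroup of upper unipotent matrices. -/
def Usub (F : Type*) [Field F] : Subgroup (GL (Fin 2) F) where
  carrier := Set.range U
  mul_mem' := by
    rintro _ _ ⟨a, rfl⟩ ⟨b, rfl⟩
    exact ⟨a + b, (U_mul a b).symm⟩
  one_mem' := ⟨0, U_zero⟩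
  inv_mem' := by
    rintro _ ⟨a, rfl⟩
    exact ⟨-a, (U_inv a).symm⟩

/-- subgroup of lower unipotent matrices. -/
def Lsub (F : Type*) [Field F] : Subgroup (GL (Fin 2) F) where
  carrier := Set.range L
  mul_mem' := by
    rintro _ _ ⟨a, rfl⟩ ⟨b, rfl⟩
    exact ⟨a + b, (L_mul a b).symm⟩
  one_mem' := ⟨0, L_zero⟩
  inv_mem' := by
    rintro _ ⟨a, rfl⟩
    exact ⟨-a, (L_inv a).symm⟩

/-- diagonal matrices. -/
def Tsub (F : Type*) [Field F] : Subgroup (GL (Fin 2) F) where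
  carrier := {g | ∃ a b : Fˣ, g = T a b}
  mul_mem' := by
    rintro _ _ ⟨a, b, rfl⟩ ⟨a', b', rfl⟩
    exact ⟨_, _, T_mul a b a' b'⟩
  one_mem' := ⟨1, 1, T_one.symm⟩
  inv_mem' := by
    rintro _ ⟨a, b, rfl⟩
    exact ⟨_, _, T_inv a b⟩

/-- scalar matrices. -/
def Zsub (F : Type*) [Field F] : Subgroup (GL (Fin 2) F) where
  carrier := {g | ∃ a : Fˣ, g = T a a}
  mul_mem' := by
    rintro _ _ ⟨a, rfl⟩ ⟨a', rfl⟩
    exact ⟨_, T_mul a a a' a'⟩
  one_mem' := ⟨1, T_one.symm⟩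
  inv_mem' := by
    rintro _ ⟨a, rfl⟩
    exact ⟨_, T_inv a a⟩

/-- the central involution. -/
def tt (φ : GL (Fin 2) F →* G) : G := φ (T (-1) (-1))
/-- upper root group. -/
def A (φ : GL (Fin 2) F →* G) : Subgroup G := (Usub F).map φ
/-- lower root group. -/
def B (φ : GL (Fin 2) F →* G) : Subgroup G := (Lsub F).map φ
/-- diagonal torus. -/
def Ht (φ : GL (Fin 2) F →* G) : Subgroup G := (Tsub F).map φ
/-- scalars. -/
def Zc (φ : GL (Fin 2) F →* G) : Subgroup G := (Zsub F).map φ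
/-- conjugate homomorphism. -/
def cφ (g : G) (φ : GL (Fin 2) F →* G) : GL (Fin 2) F →* G := (MulAut.conj g).toMonoidHom.comp φ
/-- flipped homomorphism. -/
def fl (φ : GL (Fin 2) F →* G) : GL (Fin 2) F →* G := φ.comp (MulAut.conj W).toMonoidHom

theorem cφ_apply (g : G) (φ : GL (Fin 2) F →* G) (x : GL (Fin 2) F) :
    cφ g φ x = g * φ x * g⁻¹ := rfl

theorem fl_apply (φ : GL (Fin 2) F →* G) (x : GL (Fin 2) F) : fl φ x = φ (W * x * W⁻¹) := rfl

theorem mem_A {φ : GL (Fin 2) F →* G} {x : G} : x ∈ A φ ↔ ∃ c, φ (U c) = x := by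
  constructor
  · rintro ⟨_, ⟨c, rfl⟩, rfl⟩; exact ⟨c, rfl⟩
  · rintro ⟨c, rfl⟩; exact ⟨_, ⟨c, rfl⟩, rfl⟩

theorem mem_B {φ : GL (Fin 2) F →* G} {x : G} : x ∈ B φ ↔ ∃ c, φ (L c) = x := by
  constructor
  · rintro ⟨_, ⟨c, rfl⟩, rfl⟩; exact ⟨c, rfl⟩
  · rintro ⟨c, rfl⟩; exact ⟨_, ⟨c, rfl⟩, rfl⟩

theorem mem_Ht {φ : GL (Fin 2) F →* G} {x : G} : x ∈ Ht φ ↔ ∃ a b, φ (T a b) = x := by
  constructor
  · rintro ⟨_, ⟨a, b, rfl⟩, rfl⟩; exact ⟨a, b, rfl⟩
  · rintro ⟨a, b, rfl⟩; exact ⟨_, ⟨a, b, rfl⟩, rfl⟩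

theorem mem_Zc {φ : GL (Fin 2) F →* G} {x : G} : x ∈ Zc φ ↔ ∃ a, φ (T a a) = x := by
  constructor
  · rintro ⟨_, ⟨a, rfl⟩, rfl⟩; exact ⟨a, rfl⟩
  · rintro ⟨a, rfl⟩; exact ⟨_, ⟨a, rfl⟩, rfl⟩

theorem mem_A_cφ {φ : GL (Fin 2) F →* G} {g x : G} : x ∈ A (cφ g φ) ↔ g⁻¹ * x * g ∈ A φ := by
  rw [mem_A, mem_A]
  refine exists_congr fun c => ?_
  rw [cφ_apply]
  constructor
  · intro h; rw [← h]; group
  · intro h; rw [h]; group

theorem mem_B_cφ {φ : GL (Fin 2) F →* G} {g x : G} : x ∈ B (cφ g φ) ↔ g⁻¹ * x * g ∈ B φ := by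
  rw [mem_B, mem_B]
  refine exists_congr fun c => ?_
  rw [cφ_apply]
  constructor
  · intro h; rw [← h]; group
  · intro h; rw [h]; group

theorem mem_Ht_cφ {φ : GL (Fin 2) F →* G} {g x : G} : x ∈ Ht (cφ g φ) ↔ g⁻¹ * x * g ∈ Ht φ := by
  rw [mem_Ht, mem_Ht]
  refine exists_congr fun a => exists_congr fun b => ?_
  rw [cφ_apply]
  constructor
  · intro h; rw [← h]; group
  · intro h; rw [h]; group

theorem mem_Zc_cφ {φ : GL (Fin 2) F →* G} {g x : G} : x ∈ Zc (cφ g φ) ↔ g⁻¹ * x * g ∈ Zc φ := by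
  rw [mem_Zc, mem_Zc]
  refine exists_congr fun a => ?_
  rw [cφ_apply]
  constructor
  · intro h; rw [← h]; group
  · intro h; rw [h]; group

theorem tt_cφ (g : G) (φ : GL (Fin 2) F →* G) : tt (cφ g φ) = g * tt φ * g⁻¹ := rfl

theorem A_fl (φ : GL (Fin 2) F →* G) : A (fl φ) = B φ := by
  ext x; rw [mem_A, mem_B]; simp only [fl_apply, W_U]

theorem B_fl (φ : GL (Fin 2) F →* G) : B (fl φ) = A φ := by
  ext x; rw [mem_A, mem_B]; simp only [fl_apply, W_L]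

theorem Ht_fl (φ : GL (Fin 2) F →* G) : Ht (fl φ) = Ht φ := by
  ext x; rw [mem_Ht, mem_Ht]; simp only [fl_apply, W_T]
  exact exists_comm

theorem tt_fl (φ : GL (Fin 2) F →* G) : tt (fl φ) = tt φ := by
  rw [tt, tt, fl_apply, W_T]

theorem Zc_fl (φ : GL (Fin 2) F →* G) : Zc (fl φ) = Zc φ := by
  ext x; rw [mem_Zc, mem_Zc]; simp only [fl_apply, W_T]

theorem cφ_fl (g : G) (φ : GL (Fin 2) F →* G) : cφ g (fl φ) = fl (cφ g φ) := rfl

theorem cφ_cφ (g h : G) (φ : GL (Fin 2) F →* G) : cφ g (cφ h φ) = cφ (g * h) φ := by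
  apply MonoidHom.ext; intro x
  rw [cφ_apply, cφ_apply, cφ_apply]; group

theorem cφ_one (φ : GL (Fin 2) F →* G) : cφ 1 φ = φ := by
  apply MonoidHom.ext; intro x
  rw [cφ_apply]; group

/-- `s` and `s'` are the two noncentral involutions of the diagonal four-group. -/
def Pair (φ : GL (Fin 2) F →* G) (s s' : G) : Prop :=
  (s = φ (T 1 (-1)) ∧ s' = φ (T (-1) 1)) ∨ (s = φ (T (-1) 1) ∧ s' = φ (T 1 (-1)))

/-- The basic hypothesis. -/
structure Hyp (φ : GL (Fin 2) F →* G) (n : G) : Prop where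
  two : (2 : F) ≠ 0
  ker_c : ∀ g, φ g = 1 → g ∈ Subgroup.center (GL (Fin 2) F)
  ker_o : Odd (Nat.card φ.ker)
  cent : ∀ g : G, g * tt φ = tt φ * g → ∃ x, φ x = g
  pair : Pair φ (n * tt φ * n⁻¹) (n⁻¹ * tt φ * n)

variable {φ : GL (Fin 2) F →* G} {n : G}

theorem Pair.symm {s s' : G} (h : Pair φ s s') : Pair φ s' s := by
  rcases h with ⟨h1, h2⟩ | ⟨h1, h2⟩
  · exact Or.inr ⟨h2, h1⟩
  · exact Or.inl ⟨h2, h1⟩

theorem Pair.mul {s s' : G} (h : Pair φ s s') : s * s' = tt φ := by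
  rcases h with ⟨h1, h2⟩ | ⟨h1, h2⟩ <;> rw [h1, h2, ← map_mul, T_mul, tt] <;> simp

theorem Pair.mul' {s s' : G} (h : Pair φ s s') : s * tt φ = s' := by
  rcases h with ⟨h1, h2⟩ | ⟨h1, h2⟩ <;> rw [h1, h2, tt, ← map_mul, T_mul] <;> simp

theorem Pair.mul'' {s s' : G} (h : Pair φ s s') : tt φ * s = s' := by
  rcases h with ⟨h1, h2⟩ | ⟨h1, h2⟩ <;> rw [h1, h2, tt, ← map_mul, T_mul] <;> simp

theorem Pair.sq {s s' : G} (h : Pair φ s s') : s * s = 1 := by
  rcases h with ⟨h1, h2⟩ | ⟨h1, h2⟩ <;> rw [h1, ← map_mul, T_mul] <;> simp [T_one]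

theorem Pair.conj {s s' : G} (h : Pair φ s s') (g : G) :
    Pair (cφ g φ) (g * s * g⁻¹) (g * s' * g⁻¹) := by
  rcases h with ⟨h1, h2⟩ | ⟨h1, h2⟩
  · exact Or.inl ⟨by rw [h1, cφ_apply], by rw [h2, cφ_apply]⟩
  · exact Or.inr ⟨by rw [h1, cφ_apply], by rw [h2, cφ_apply]⟩

theorem Pair.flip {s s' : G} (h : Pair φ s s') : Pair (fl φ) s s' := by
  rcases h with ⟨h1, h2⟩ | ⟨h1, h2⟩
  · exact Or.inr ⟨by rw [h1, fl_apply, W_T], by rw [h2, fl_apply, W_T]⟩
  · exact Or.inl ⟨by rw [h1, fl_apply, W_T], by rw [h2, fl_apply, W_T]⟩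

theorem tt_sq (φ : GL (Fin 2) F →* G) : tt φ * tt φ = 1 := by
  rw [tt, ← map_mul, T_mul]; simp [T_one]

/-- commuting elements lift to commuting elements. -/
theorem Hyp.comm_lift (hH : Hyp φ n) {g h : GL (Fin 2) F} (e : φ g * φ h = φ h * φ g) :
    g * h = h * g := by
  have hk : φ (g * h * g⁻¹ * h⁻¹) = 1 := by
    rw [map_mul, map_mul, map_mul, map_inv, map_inv, e]; group
  obtain ⟨a, ha⟩ := scalar_of_center (hH.ker_c _ hk)
  have hdet : (g * h * g⁻¹ * h⁻¹).1.det = 1 := by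
    have h1 : ∀ x : GL (Fin 2) F, x.1.det * (x⁻¹).1.det = 1 := by
      intro x
      rw [← Matrix.det_mul, ← Units.val_mul, mul_inv_cancel, Units.val_one, Matrix.det_one]
    rw [Units.val_mul, Units.val_mul, Units.val_mul, Matrix.det_mul, Matrix.det_mul,
      Matrix.det_mul]
    linear_combination (h.1.det * (h⁻¹).1.det) * h1 g + h1 h
  rw [ha, det_eq] at hdet
  simp only [T_00, T_01, T_10, T_11, mul_zero, sub_zero] at hdet
  have ha2 : a * a = 1 := Units.ext hdet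
  have hker : T a a ∈ φ.ker := by rw [← ha]; exact hk
  obtain ⟨m, hm⟩ := hH.ker_o
  have hpow : (T a a) ^ Nat.card φ.ker = 1 := by
    have h1 : (⟨T a a, hker⟩ : φ.ker) ^ Nat.card φ.ker = 1 := pow_card_eq_one'
    exact congrArg Subtype.val h1
  have hsq : T a a * T a a = 1 := by rw [T_mul, ha2, T_one]
  rw [hm, pow_succ, pow_mul, pow_two, hsq, one_pow, one_mul] at hpow
  rw [hpow] at ha
  have h3 : g * h = g * h * g⁻¹ * h⁻¹ * (h * g) := by group
  rw [h3, ha, one_mul]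

theorem Hyp.ker_T (hH : Hyp φ n) {g : GL (Fin 2) F} (h : φ g = 1) : ∃ a, g = T a a :=
  scalar_of_center (hH.ker_c _ h)

theorem Hyp.U_inj (hH : Hyp φ n) {c c' : F} (h : φ (U c) = φ (U c')) : c = c' := by
  have h1 : φ (U (c - c')) = 1 := by
    rw [sub_eq_add_neg, ← U_mul, ← U_inv, map_mul, map_inv, h, mul_inv_cancel]
  obtain ⟨a, ha⟩ := hH.ker_T h1
  have h2 := congrArg (fun k : GL (Fin 2) F => k.1 0 1) ha
  simp only [U_01, T_01] at h2
  exact sub_eq_zero.mp h2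

theorem Hyp.tt_ne (hH : Hyp φ n) : tt φ ≠ 1 := by
  intro h
  have hker : T (-1 : Fˣ) (-1) ∈ φ.ker := h
  obtain ⟨m, hm⟩ := hH.ker_o
  have hpow : (T (-1 : Fˣ) (-1)) ^ Nat.card φ.ker = 1 := by
    have h1 : (⟨T (-1) (-1), hker⟩ : φ.ker) ^ Nat.card φ.ker = 1 := pow_card_eq_one'
    exact congrArg Subtype.val h1
  have hsq : T (-1 : Fˣ) (-1) * T (-1) (-1) = 1 := by rw [T_mul]; simp [T_one]
  rw [hm, pow_succ, pow_mul, pow_two, hsq, one_pow, one_mul] at hpow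
  have h1 := congrArg (fun k : GL (Fin 2) F => k.1 0 0) hpow
  simp only [T_00, one_00, Units.val_neg, Units.val_one] at h1
  apply hH.two
  linear_combination -h1

theorem Hyp.inv (hH : Hyp φ n) : Hyp φ n⁻¹ where
  two := hH.two
  ker_c := hH.ker_c
  ker_o := hH.ker_o
  cent := hH.cent
  pair := by rw [inv_inv]; exact hH.pair.symm

theorem cφ_eq_one {g : G} {x : GL (Fin 2) F} : cφ g φ x = 1 ↔ φ x = 1 := by
  rw [cφ_apply, mul_inv_eq_one, mul_eq_left]

theorem Hyp.flip (hH : Hyp φ n) : Hyp (fl φ) n where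
  two := hH.two
  ker_c := by
    intro g hg
    have h1 := hH.ker_c _ hg
    have h2 := (Subgroup.center (GL (Fin 2) F)).normalCore_normal
    have h3 : (Subgroup.center (GL (Fin 2) F)).Normal := inferInstance
    have h4 := h3.conj_mem _ h1 W⁻¹
    have h5 : W⁻¹ * (W * g * W⁻¹) * W⁻¹⁻¹ = g := by group
    rwa [MulEquiv.toMonoidHom_eq_coe, MonoidHom.coe_coe, MulAut.conj_apply, h5] at h4
  ker_o := by
    have : Nat.card (fl φ).ker = Nat.card φ.ker := by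
      refine Nat.card_congr ⟨fun x => ⟨W * (x : GL (Fin 2) F) * W⁻¹, x.2⟩,
        fun x => ⟨W⁻¹ * (x : GL (Fin 2) F) * W, ?_⟩, ?_, ?_⟩
      · rw [MonoidHom.mem_ker, fl_apply]
        have h1 : ∀ w y : GL (Fin 2) F, w * (w⁻¹ * y * w) * w⁻¹ = y := by
          intro w y; group
        rw [h1]; exact x.2
      · intro x; apply Subtype.ext
        have h1 : ∀ w y : GL (Fin 2) F, w⁻¹ * (w * y * w⁻¹) * w = y := by
          intro w y; group
        exact h1 _ _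
      · intro x; apply Subtype.ext
        have h1 : ∀ w y : GL (Fin 2) F, w * (w⁻¹ * y * w) * w⁻¹ = y := by
          intro w y; group
        exact h1 _ _
    rw [this]; exact hH.ker_o
  cent := by
    intro g hg
    rw [tt_fl] at hg
    obtain ⟨x, hx⟩ := hH.cent g hg
    refine ⟨W⁻¹ * x * W, ?_⟩
    rw [fl_apply, ← hx]
    congr 1; group
  pair := by rw [tt_fl]; exact hH.pair.flip

/-- `n t₁ n⁻¹ = t₂`. -/
theorem Hyp.n_t1 (hH : Hyp φ n) : n * (n * tt φ * n⁻¹) * n⁻¹ = n⁻¹ * tt φ * n := by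
  have h1 := hH.pair.symm.mul'
  -- t1 = t2 * t
  have h2 : n * (n * tt φ * n⁻¹) * n⁻¹ = n * ((n⁻¹ * tt φ * n) * tt φ) * n⁻¹ := by rw [h1]
  have h3 : n * ((n⁻¹ * tt φ * n) * tt φ) * n⁻¹ = tt φ * (n * tt φ * n⁻¹) := by group
  rw [h2, h3, hH.pair.mul'']

theorem Hyp.n_t2 (hH : Hyp φ n) : n⁻¹ * (n⁻¹ * tt φ * n) * n = n * tt φ * n⁻¹ := by
  have := hH.inv.n_t1
  rwa [inv_inv] at this

theorem Hyp.rot (hH : Hyp φ n) : Hyp (cφ n φ) n where
  two := hH.two
  ker_c := fun g hg => hH.ker_c g (cφ_eq_one.mp hg)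
  ker_o := by
    have : (cφ n φ).ker = φ.ker := by
      ext x; rw [MonoidHom.mem_ker, MonoidHom.mem_ker, cφ_eq_one]
    rw [this]; exact hH.ker_o
  cent := by
    intro g hg
    rw [tt_cφ] at hg
    have h1 : (n⁻¹ * g * n) * tt φ = tt φ * (n⁻¹ * g * n) := by
      have h2 : n⁻¹ * g * n * tt φ = n⁻¹ * (g * (n * tt φ * n⁻¹)) * n := by group
      rw [h2, hg]; group
    obtain ⟨x, hx⟩ := hH.cent _ h1
    exact ⟨x, by rw [cφ_apply, hx]; group⟩
  pair := by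
    rw [tt_cφ]
    have h1 := hH.pair.symm.conj n
    have h2 : n * (n⁻¹ * tt φ * n) * n⁻¹ = tt φ := by group
    have h3 : n⁻¹ * (n * tt φ * n⁻¹) * n = tt φ := by group
    rw [h2] at h1
    rw [hH.n_t1, h3]
    have h4 : n * (n * tt φ * n⁻¹) * n⁻¹ = n⁻¹ * tt φ * n := hH.n_t1
    rw [h4] at h1
    exact h1.symm

theorem Hyp.rot' (hH : Hyp φ n) : Hyp (cφ n⁻¹ φ) n := by
  have := hH.inv.rot.inv
  rwa [inv_inv] at this

/-- the centralizer of the four-group is the torus. -/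
theorem Hyp.mem_Ht_of_comm (hH : Hyp φ n) {g : G} (h0 : g * tt φ = tt φ * g)
    (h1 : g * (n * tt φ * n⁻¹) = (n * tt φ * n⁻¹) * g) : g ∈ Ht φ := by
  obtain ⟨x, rfl⟩ := hH.cent g h0
  have hs : φ x * φ (T 1 (-1)) = φ (T 1 (-1)) * φ x := by
    rcases hH.pair with ⟨h, _⟩ | ⟨h, h'⟩
    · rwa [h] at h1
    · have h3 : φ (T 1 (-1)) = (n * tt φ * n⁻¹) * tt φ := by rw [hH.pair.mul', h']
      rw [h3, ← mul_assoc, h1, mul_assoc, h0, ← mul_assoc]
  obtain ⟨a, b, hab⟩ := diag_of_comm hH.two (hH.comm_lift hs)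
  exact mem_Ht.mpr ⟨a, b, by rw [hab]⟩

theorem Ht_comm {x y : G} (hx : x ∈ Ht φ) (hy : y ∈ Ht φ) : x * y = y * x := by
  obtain ⟨a, b, rfl⟩ := mem_Ht.mp hx
  obtain ⟨a', b', rfl⟩ := mem_Ht.mp hy
  rw [← map_mul, ← map_mul, T_mul, T_mul, mul_comm a, mul_comm b]

theorem tt_mem_Ht : tt φ ∈ Ht φ := mem_Ht.mpr ⟨_, _, rfl⟩

theorem Pair.mem {s s' : G} (h : Pair φ s s') : s ∈ Ht φ := by
  rcases h with ⟨h1, _⟩ | ⟨h1, _⟩
  · exact mem_Ht.mpr ⟨_, _, h1.symm⟩
  · exact mem_Ht.mpr ⟨_, _, h1.symm⟩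

theorem Hyp.conj_mem_Ht (hH : Hyp φ n) {x : G} (hx : x ∈ Ht φ) : n * x * n⁻¹ ∈ Ht φ := by
  refine hH.mem_Ht_of_comm ?_ ?_
  · have h1 := Ht_comm hx hH.pair.symm.mem
    have h2 : n * x * n⁻¹ * tt φ = n * (x * (n⁻¹ * tt φ * n)) * n⁻¹ := by group
    rw [h2, h1]; group
  · have h1 := Ht_comm hx (tt_mem_Ht (φ := φ))
    have h2 : n * x * n⁻¹ * (n * tt φ * n⁻¹) = n * (x * tt φ) * n⁻¹ := by group
    rw [h2, h1]; group

theorem Hyp.conj_mem_Ht' (hH : Hyp φ n) {x : G} (hx : x ∈ Ht φ) : n⁻¹ * x * n ∈ Ht φ := by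
  have := hH.inv.conj_mem_Ht hx
  rwa [inv_inv] at this

theorem Hyp.Ht_rot (hH : Hyp φ n) : Ht (cφ n φ) = Ht φ := by
  ext x
  rw [mem_Ht_cφ]
  constructor
  · intro h
    have := hH.conj_mem_Ht h
    have h2 : n * (n⁻¹ * x * n) * n⁻¹ = x := by group
    rwa [h2] at this
  · exact hH.conj_mem_Ht'

theorem Hyp.Ht_rot' (hH : Hyp φ n) : Ht (cφ n⁻¹ φ) = Ht φ := hH.inv.Ht_rot

/-- `n³ ∈ H`. -/
theorem Hyp.n_cube (hH : Hyp φ n) : n * n * n ∈ Ht φ := by
  have e1 : n * (n * tt φ * n⁻¹) * n⁻¹ = n⁻¹ * tt φ * n := hH.n_t1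
  have key : (n * n * n) * tt φ * (n * n * n)⁻¹ = tt φ := by
    have h : (n * n * n) * tt φ * (n * n * n)⁻¹ = n * (n * (n * tt φ * n⁻¹) * n⁻¹) * n⁻¹ := by
      group
    rw [h, e1]; group
  refine hH.mem_Ht_of_comm (mul_inv_eq_iff_eq_mul.mp key) (mul_inv_eq_iff_eq_mul.mp ?_)
  have h : (n * n * n) * (n * tt φ * n⁻¹) * (n * n * n)⁻¹ =
      n * ((n * n * n) * tt φ * (n * n * n)⁻¹) * n⁻¹ := by group
  rw [h, key]

/-- torus normalises the root groups -/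
theorem conj_A {h x : G} (hh : h ∈ Ht φ) (hx : x ∈ A φ) : h * x * h⁻¹ ∈ A φ := by
  obtain ⟨a, b, rfl⟩ := mem_Ht.mp hh
  obtain ⟨c, rfl⟩ := mem_A.mp hx
  rw [← map_inv, ← map_mul, ← map_mul, T_U]
  exact mem_A.mpr ⟨_, rfl⟩

theorem conj_B {h x : G} (hh : h ∈ Ht φ) (hx : x ∈ B φ) : h * x * h⁻¹ ∈ B φ := by
  rw [← A_fl] at hx ⊢
  rw [← Ht_fl] at hh
  exact conj_A hh hx

theorem A_cφ_of_Ht {h : G} (hh : h ∈ Ht φ) : A (cφ h φ) = A φ := by
  ext x
  rw [mem_A_cφ]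
  constructor
  · intro hx
    have := conj_A hh hx
    have h2 : h * (h⁻¹ * x * h) * h⁻¹ = x := by group
    rwa [h2] at this
  · intro hx
    have := conj_A ((Ht φ).inv_mem hh) hx
    rwa [inv_inv] at this

theorem B_cφ_of_Ht {h : G} (hh : h ∈ Ht φ) : B (cφ h φ) = B φ := by
  rw [← A_fl, ← A_fl, ← cφ_fl]
  apply A_cφ_of_Ht
  rwa [Ht_fl]

theorem Ht_cφ_of_Ht {h : G} (hh : h ∈ Ht φ) : Ht (cφ h φ) = Ht φ := by
  ext x
  rw [mem_Ht_cφ]
  constructor
  · intro hx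
    have := (Ht φ).mul_mem ((Ht φ).mul_mem hh hx) ((Ht φ).inv_mem hh)
    have h2 : h * (h⁻¹ * x * h) * h⁻¹ = x := by group
    rwa [h2] at this
  · intro hx
    exact (Ht φ).mul_mem ((Ht φ).mul_mem ((Ht φ).inv_mem hh) hx) hh

theorem A_cφ_w : A (cφ (φ W) φ) = B φ := by
  ext x
  rw [mem_A, mem_B]
  refine exists_congr fun c => ?_
  rw [cφ_apply, ← map_inv, ← map_mul, ← map_mul, W_U]

theorem B_cφ_w : B (cφ (φ W) φ) = A φ := by
  ext x
  rw [mem_A, mem_B]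
  refine exists_congr fun c => ?_
  rw [cφ_apply, ← map_inv, ← map_mul, ← map_mul, W_L]

/-- double rotation -/
theorem Hyp.A_rot_rot (hH : Hyp φ n) : A (cφ n (cφ n φ)) = A (cφ n⁻¹ φ) := by
  have h1 : cφ n (cφ n φ) = cφ n⁻¹ (cφ (n * n * n) φ) := by
    rw [cφ_cφ, cφ_cφ]; congr 1; group
  have h3 : ∀ (ψ ψ' : GL (Fin 2) F →* G), A ψ = A ψ' → ∀ g, A (cφ g ψ) = A (cφ g ψ') := by
    intro ψ ψ' h g
    ext x; rw [mem_A_cφ, mem_A_cφ, h]
  rw [h1]
  exact h3 _ _ (A_cφ_of_Ht hH.n_cube) _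

theorem Hyp.B_rot_rot (hH : Hyp φ n) : B (cφ n (cφ n φ)) = B (cφ n⁻¹ φ) := by
  rw [← A_fl, ← A_fl, ← cφ_fl, ← cφ_fl, ← cφ_fl]
  exact hH.flip.A_rot_rot

end Cfsg.Agent.Classification.IdL3.Setup
end

-- part: Classification/IdL3/SetupTwo
section
/-!
Further facts on the root groups of `IdL3.Setup`: commuting relations, torus lemma in `G`,
centralizers of root elements in `C(t)`.
-/

set_option autoImplicit false
set_option linter.unusedSimpArgs false

namespace Cfsg.Agent.Classification.IdL3.SetupTwo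

open Matrix
open scoped MatrixGroups
open Cfsg.Agent.Classification.IdL3.Mat
open Cfsg.Agent.Classification.IdL3.MatTwo
open Cfsg.Agent.Classification.IdL3.MatThree
open Cfsg.Agent.Classification.IdL3.Setup

variable {F : Type*} [Field F] {G : Type*} [Group G]

/-- conjugate subgroup `g K g⁻¹`. -/
def cj (g : G) (K : Subgroup G) : Subgroup G := K.map (MulAut.conj g).toMonoidHom

theorem mem_cj {g x : G} {K : Subgroup G} : x ∈ cj g K ↔ g⁻¹ * x * g ∈ K := by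
  constructor
  · rintro ⟨y, hy, rfl⟩
    have : g⁻¹ * ((MulAut.conj g).toMonoidHom y) * g = y := by
      show g⁻¹ * (g * y * g⁻¹) * g = y
      group
    rwa [this]
  · intro h
    refine ⟨_, h, ?_⟩
    show g * (g⁻¹ * x * g) * g⁻¹ = x
    group

theorem cj_cj (g h : G) (K : Subgroup G) : cj g (cj h K) = cj (g * h) K := by
  ext x
  rw [mem_cj, mem_cj, mem_cj]
  have : h⁻¹ * (g⁻¹ * x * g) * h = (g * h)⁻¹ * x * (g * h) := by group
  rw [this]

theorem cj_one (K : Subgroup G) : cj 1 K = K := by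
  ext x; rw [mem_cj]; simp

theorem cj_le_cj {g : G} {K M : Subgroup G} (h : K ≤ M) : cj g K ≤ cj g M := by
  intro x hx; rw [mem_cj] at hx ⊢; exact h hx

theorem card_cj (g : G) (K : Subgroup G) : Nat.card (cj g K) = Nat.card K :=
  Subgroup.card_map_of_injective (MulAut.conj g).injective

theorem cj_eq_of_mem {g : G} {K : Subgroup G} (h : g ∈ K) : cj g K = K := by
  ext x
  rw [mem_cj]
  constructor
  · intro hx
    have := K.mul_mem (K.mul_mem h hx) (K.inv_mem h)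
    have h2 : g * (g⁻¹ * x * g) * g⁻¹ = x := by group
    rwa [h2] at this
  · intro hx
    exact K.mul_mem (K.mul_mem (K.inv_mem h) hx) h

theorem A_cφ (g : G) (φ : GL (Fin 2) F →* G) : A (cφ g φ) = cj g (A φ) := by
  ext x; rw [mem_A_cφ, mem_cj]

theorem B_cφ (g : G) (φ : GL (Fin 2) F →* G) : B (cφ g φ) = cj g (B φ) := by
  ext x; rw [mem_B_cφ, mem_cj]

theorem Ht_cφ (g : G) (φ : GL (Fin 2) F →* G) : Ht (cφ g φ) = cj g (Ht φ) := by
  ext x; rw [mem_Ht_cφ, mem_cj]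

theorem Zc_cφ (g : G) (φ : GL (Fin 2) F →* G) : Zc (cφ g φ) = cj g (Zc φ) := by
  ext x; rw [mem_Zc_cφ, mem_cj]

/-- commuting subgroups. -/
def Cm (X Y : Subgroup G) : Prop := ∀ x ∈ X, ∀ y ∈ Y, x * y = y * x

theorem Cm.symm {X Y : Subgroup G} (h : Cm X Y) : Cm Y X := fun x hx y hy => (h y hy x hx).symm

theorem Cm.cj {X Y : Subgroup G} (h : Cm X Y) (g : G) : Cm (cj g X) (cj g Y) := by
  intro x hx y hy
  rw [mem_cj] at hx hy
  have h1 := h _ hx _ hy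
  have h2 : x * y = g * (g⁻¹ * x * g * (g⁻¹ * y * g)) * g⁻¹ := by group
  rw [h2, h1]; group

variable {φ : GL (Fin 2) F →* G} {n : G}

/-- `w` -/
def wv (φ : GL (Fin 2) F →* G) : G := φ W

theorem wv_sq : wv φ * wv φ = 1 := by rw [wv, ← map_mul, W_mul_W, map_one]

theorem wv_inv : (wv φ)⁻¹ = wv φ := by rw [inv_eq_iff_mul_eq_one, wv_sq]

theorem cj_wv_A : cj (wv φ) (A φ) = B φ := by rw [← A_cφ]; exact A_cφ_w

theorem cj_wv_B : cj (wv φ) (B φ) = A φ := by rw [← B_cφ]; exact B_cφ_w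

theorem cj_Ht_A {h : G} (hh : h ∈ Ht φ) : cj h (A φ) = A φ := by
  rw [← A_cφ]; exact A_cφ_of_Ht hh

theorem cj_Ht_B {h : G} (hh : h ∈ Ht φ) : cj h (B φ) = B φ := by
  rw [← B_cφ]; exact B_cφ_of_Ht hh

theorem wv_tt : wv φ * tt φ * (wv φ)⁻¹ = tt φ := by
  rw [wv, tt, ← map_inv, ← map_mul, ← map_mul, W_T]

theorem wv_pair {s s' : G} (h : Pair φ s s') : wv φ * s * (wv φ)⁻¹ = s' := by
  rcases h with ⟨h1, h2⟩ | ⟨h1, h2⟩
  · rw [h1, h2, wv, ← map_inv, ← map_mul, ← map_mul, W_T]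
  · rw [h1, h2, wv, ← map_inv, ← map_mul, ← map_mul, W_T]

theorem w_rel (hH : Hyp φ n) :
    n * wv φ * n * (wv φ)⁻¹ ∈ Ht φ := by
  have e1 := wv_tt (φ := φ)
  have e2 := wv_pair hH.pair
  have e3 := wv_pair hH.pair.symm
  have e4 : n * (n * tt φ * n⁻¹) * n⁻¹ = n⁻¹ * tt φ * n := hH.n_t1
  have e1' : (wv φ)⁻¹ * tt φ * wv φ = tt φ := by
    have : (wv φ)⁻¹ * tt φ * wv φ = (wv φ)⁻¹ * (wv φ * tt φ * (wv φ)⁻¹) * wv φ := by rw [e1]
    rw [this]; group
  have e2' : (wv φ)⁻¹ * (n * tt φ * n⁻¹) * wv φ = n⁻¹ * tt φ * n := by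
    rw [← e3]; group
  refine hH.mem_Ht_of_comm (mul_inv_eq_iff_eq_mul.mp ?_) (mul_inv_eq_iff_eq_mul.mp ?_)
  · have h : n * wv φ * n * (wv φ)⁻¹ * tt φ * (n * wv φ * n * (wv φ)⁻¹)⁻¹ =
        n * (wv φ * (n * ((wv φ)⁻¹ * tt φ * wv φ) * n⁻¹) * (wv φ)⁻¹) * n⁻¹ := by group
    rw [h, e1', e2]; group
  · have h : n * wv φ * n * (wv φ)⁻¹ * (n * tt φ * n⁻¹) * (n * wv φ * n * (wv φ)⁻¹)⁻¹ =
        n * (wv φ * (n * ((wv φ)⁻¹ * (n * tt φ * n⁻¹) * wv φ) * n⁻¹) * (wv φ)⁻¹) * n⁻¹ := by group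
    have h3 : n * (n⁻¹ * tt φ * n) * n⁻¹ = tt φ := by group
    rw [h, e2', h3, e1]

/-- `w` exchanges `A₁` and `B₂`. -/
theorem cj_w_A1 (hH : Hyp φ n) :
    cj (wv φ) (A (cφ n φ)) = B (cφ n⁻¹ φ) := by
  have h1 : wv φ * n = n⁻¹ * ((n * wv φ * n * (wv φ)⁻¹) * wv φ) := by group
  rw [A_cφ, B_cφ, cj_cj, h1, ← cj_cj, ← cj_cj, cj_wv_A, cj_Ht_B (w_rel hH)]

theorem cj_w_B1 (hH : Hyp φ n) :
    cj (wv φ) (B (cφ n φ)) = A (cφ n⁻¹ φ) := by
  have h1 : wv φ * n = n⁻¹ * ((n * wv φ * n * (wv φ)⁻¹) * wv φ) := by group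
  rw [A_cφ, B_cφ, cj_cj, h1, ← cj_cj, ← cj_cj, cj_wv_B, cj_Ht_A (w_rel hH)]

theorem cj_w_A2 (hH : Hyp φ n) :
    cj (wv φ) (A (cφ n⁻¹ φ)) = B (cφ n φ) := by
  have := (cj_w_A1 hH.inv)
  rwa [inv_inv] at this

theorem cj_w_B2 (hH : Hyp φ n) :
    cj (wv φ) (B (cφ n⁻¹ φ)) = A (cφ n φ) := by
  have := (cj_w_B1 hH.inv)
  rwa [inv_inv] at this

theorem cj_n_A : cj n (A φ) = A (cφ n φ) := (A_cφ n φ).symm
theorem cj_n_B : cj n (B φ) = B (cφ n φ) := (B_cφ n φ).symm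
theorem cj_n_A2 : cj n (A (cφ n⁻¹ φ)) = A φ := by rw [A_cφ, cj_cj, mul_inv_cancel, cj_one]
theorem cj_n_B2 : cj n (B (cφ n⁻¹ φ)) = B φ := by rw [B_cφ, cj_cj, mul_inv_cancel, cj_one]

theorem cj_n_A1 (hH : Hyp φ n) :
    cj n (A (cφ n φ)) = A (cφ n⁻¹ φ) := by
  rw [← A_cφ]; exact hH.A_rot_rot

theorem cj_n_B1 (hH : Hyp φ n) :
    cj n (B (cφ n φ)) = B (cφ n⁻¹ φ) := by
  rw [← B_cφ]; exact hH.B_rot_rot

/-- The three relations. -/
def Ra (φ : GL (Fin 2) F →* G) (n : G) : Prop := Cm (A φ) (A (cφ n φ))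
/-- second relation -/
def Rb (φ : GL (Fin 2) F →* G) (n : G) : Prop := Cm (A φ) (B (cφ n φ))

section rel
variable (hH : Hyp φ n)
include hH

theorem Ra.rot (h : Ra φ n) : Ra (cφ n φ) n := by
  have := Cm.cj h n
  rwa [(cj_n_A1 hH), cj_n_A, ← hH.A_rot_rot] at this

theorem Ra.inv (h : Ra φ n) : Ra φ n⁻¹ := by
  have := (Cm.cj (Ra.rot hH h) n).symm
  rw [hH.A_rot_rot, cj_n_A2, (cj_n_A1 hH)] at this
  exact this

theorem Ra.wB (h : Ra φ n) : Cm (B φ) (B (cφ n⁻¹ φ)) := by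
  have := Cm.cj h (wv φ)
  rwa [cj_wv_A, (cj_w_A1 hH)] at this

theorem Ra.wB' (h : Ra φ n) : Cm (B φ) (B (cφ n φ)) := by
  have := Cm.cj (Ra.wB hH h) n
  rw [cj_n_B, cj_n_B2] at this
  exact this.symm

theorem Ra.flip (h : Ra φ n) : Ra (fl φ) n := by
  unfold Ra
  rw [cφ_fl, A_fl, A_fl]
  exact Ra.wB' hH h

theorem Rb.rot (h : Rb φ n) : Rb (cφ n φ) n := by
  have := Cm.cj h n
  rwa [(cj_n_B1 hH), cj_n_A, ← hH.B_rot_rot] at this

end rel

theorem Pair.inverts_A {s s' x : G} (h : Pair φ s s') (hx : x ∈ A φ) : s * x * s⁻¹ = x⁻¹ := by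
  obtain ⟨c, rfl⟩ := mem_A.mp hx
  rcases h with ⟨h1, _⟩ | ⟨h1, _⟩ <;>
    rw [h1, ← map_inv, ← map_inv, ← map_mul, ← map_mul, T_U, U_inv] <;> simp

theorem Pair.inverts_B {s s' x : G} (h : Pair φ s s') (hx : x ∈ B φ) : s * x * s⁻¹ = x⁻¹ := by
  obtain ⟨c, rfl⟩ := mem_B.mp hx
  rcases h with ⟨h1, _⟩ | ⟨h1, _⟩ <;>
    rw [h1, ← map_inv, ← map_inv, ← map_mul, ← map_mul, T_L, L_inv] <;> simp

theorem tt_comm (g : GL (Fin 2) F) : φ g * tt φ = tt φ * φ g := by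
  rw [tt, ← map_mul, ← map_mul, T_self_comm]

theorem tt_comm_A {x : G} (hx : x ∈ A φ) : x * tt φ = tt φ * x := by
  obtain ⟨c, rfl⟩ := mem_A.mp hx
  exact tt_comm _

theorem tt_comm_B {x : G} (hx : x ∈ B φ) : x * tt φ = tt φ * x := by
  obtain ⟨c, rfl⟩ := mem_B.mp hx
  exact tt_comm _

theorem A_comm {x y : G} (hx : x ∈ A φ) (hy : y ∈ A φ) : x * y = y * x := by
  obtain ⟨c, rfl⟩ := mem_A.mp hx
  obtain ⟨d, rfl⟩ := mem_A.mp hy
  rw [← map_mul, ← map_mul, U_mul, U_mul, add_comm]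

theorem A_pow {p : ℕ} [CharP F p] {x : G} (hx : x ∈ A φ) : x ^ p = 1 := by
  obtain ⟨c, rfl⟩ := mem_A.mp hx
  have : ∀ m : ℕ, U c ^ m = U (m * c) := by
    intro m
    induction m with
    | zero => simp [U_zero]
    | succ m ih => rw [pow_succ, ih, U_mul]; congr 1; push_cast; ring
  rw [← map_pow, this, CharP.cast_eq_zero, zero_mul, U_zero, map_one]

/-- the torus is transitive on nontrivial elements of the root groups. -/
theorem exists_conj {x y : G} (hx : x ∈ A φ) (hx1 : x ≠ 1) (hy : y ∈ A φ) (hy1 : y ≠ 1) :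
    ∃ h ∈ Ht φ, h * x * h⁻¹ = y := by
  obtain ⟨c, rfl⟩ := mem_A.mp hx
  obtain ⟨d, rfl⟩ := mem_A.mp hy
  have hc : c ≠ 0 := by rintro rfl; exact hx1 (by rw [U_zero, map_one])
  have hd : d ≠ 0 := by rintro rfl; exact hy1 (by rw [U_zero, map_one])
  refine ⟨φ (T (Units.mk0 (d / c) (div_ne_zero hd hc)) 1), mem_Ht.mpr ⟨_, _, rfl⟩, ?_⟩
  rw [← map_inv, ← map_mul, ← map_mul, T_U]
  simp [hc]

theorem A_le_of_mem {K : Subgroup G} (hK : ∀ h ∈ Ht φ, ∀ k ∈ K, h * k * h⁻¹ ∈ K) {x : G}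
    (hx : x ∈ A φ) (hxK : x ∈ K) (hx1 : x ≠ 1) : A φ ≤ K := by
  intro y hy
  by_cases hy1 : y = 1
  · rw [hy1]; exact K.one_mem
  · obtain ⟨h, hh, rfl⟩ := exists_conj hx hx1 hy hy1
    exact hK h hh x hxK

theorem B_le_of_mem {K : Subgroup G} (hK : ∀ h ∈ Ht φ, ∀ k ∈ K, h * k * h⁻¹ ∈ K) {x : G}
    (hx : x ∈ B φ) (hxK : x ∈ K) (hx1 : x ≠ 1) : B φ ≤ K := by
  rw [← A_fl] at hx ⊢
  rw [← Ht_fl] at hK
  exact A_le_of_mem hK hx hxK hx1

theorem card_A (hH : Hyp φ n) :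
    Nat.card (A φ) = Nat.card F := by
  refine (Nat.card_congr (Equiv.ofBijective (fun c : F => (⟨φ (U c), mem_A.mpr ⟨c, rfl⟩⟩ : A φ))
    ⟨?_, ?_⟩)).symm
  · intro c d h
    exact hH.U_inj (congrArg Subtype.val h)
  · rintro ⟨x, hx⟩
    obtain ⟨c, rfl⟩ := mem_A.mp hx
    exact ⟨c, rfl⟩

theorem ker_coprime (hH : Hyp φ n) {p : ℕ} [hp : Fact p.Prime] [CharP F p] [Finite F] :
    ¬ p ∣ Nat.card φ.ker := by
  intro h
  obtain ⟨⟨g, hg⟩, hgo⟩ := exists_prime_orderOf_dvd_card' p h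
  obtain ⟨a, rfl⟩ := hH.ker_T hg
  have h1 : (T a a) ^ p = 1 := by
    have := pow_orderOf_eq_one (⟨T a a, hg⟩ : φ.ker)
    rw [hgo] at this
    exact congrArg Subtype.val this
  have h3 : (T a a) ^ p ^ 1 = 1 := by rwa [pow_one]
  obtain ⟨h4, _⟩ := unip_entries h3
  simp only [T_00, T_11] at h4
  have h5 : (a : F) = 1 := by
    have : (2 : F) * ((a : F) - 1) = 0 := by linear_combination h4
    exact sub_eq_zero.mp ((mul_eq_zero.mp this).resolve_left hH.two)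
  have h6 : (⟨T a a, hg⟩ : φ.ker) = 1 := by
    apply Subtype.ext
    show T a a = 1
    rw [Units.ext h5 (v := 1), T_one]
  rw [h6, orderOf_one] at hgo
  exact hp.out.one_lt.ne hgo

/-- `p`-elements lift. -/
theorem exists_lift (hH : Hyp φ n) {p : ℕ} [hp : Fact p.Prime] [CharP F p] [Finite F]
    {m : G} {k : ℕ} (hm : m ^ p ^ k = 1) (hm1 : m ≠ 1) (hc : m * tt φ = tt φ * m) :
    ∃ g : GL (Fin 2) F, g ≠ 1 ∧ g ^ p ^ k = 1 ∧ ∃ j : ℕ, φ g = m ^ j ∧ ∃ i : ℕ, (φ g) ^ i = m := by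
  obtain ⟨g, rfl⟩ := hH.cent m hc
  have hN := ker_coprime hH (p := p)
  have hcop : Nat.Coprime (Nat.card φ.ker) (p ^ k) :=
    (Nat.Coprime.symm ((Nat.Prime.coprime_iff_not_dvd hp.out).mpr hN)).pow_right k
  have hpk : 0 < p ^ k := pow_pos hp.out.pos k
  have hpk1 : 1 < p ^ k := by
    refine lt_of_le_of_ne hpk (fun h => hm1 ?_)
    rw [← h, pow_one] at hm; exact hm
  -- find `i` with `N * i ≡ 1 mod p ^ k`
  obtain ⟨i, _, hi⟩ := Nat.exists_mul_mod_eq_one_of_coprime hcop hpk1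
  have hpow : (φ g ^ Nat.card φ.ker) ^ i = φ g := by
    rw [← pow_mul]
    have h1 : φ g ^ (Nat.card φ.ker * i) = φ g ^ ((Nat.card φ.ker * i) % (p ^ k)) := by
      conv_lhs => rw [← Nat.div_add_mod (Nat.card φ.ker * i) (p ^ k), pow_add, pow_mul, hm,
        one_pow, one_mul]
    rw [h1, hi, pow_one]
  refine ⟨g ^ Nat.card φ.ker, ?_, ?_, Nat.card φ.ker, map_pow _ _ _, i, ?_⟩
  · intro h
    have h1 : φ g ^ Nat.card φ.ker = 1 := by rw [← map_pow, h, map_one]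
    rw [h1, one_pow] at hpow
    exact hm1 hpow.symm
  · have hker : g ^ p ^ k ∈ φ.ker := by rw [MonoidHom.mem_ker, map_pow, hm]
    rw [← pow_mul, mul_comm, pow_mul]
    have h1 : (⟨g ^ p ^ k, hker⟩ : φ.ker) ^ Nat.card φ.ker = 1 := pow_card_eq_one'
    exact congrArg Subtype.val h1
  · rw [map_pow]; exact hpow

/-- Torus lemma in `G`. -/
theorem torus_G (hH : Hyp φ n) {p : ℕ} [hp : Fact p.Prime] [CharP F p] [Finite F]
    (M : Subgroup G) (hM : ∀ m ∈ M, m * tt φ = tt φ * m)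
    (hMH : ∀ h ∈ Ht φ, ∀ m ∈ M, h * m * h⁻¹ ∈ M) {m : G} (hmM : m ∈ M) (hm1 : m ≠ 1) {k : ℕ}
    (hm : m ^ p ^ k = 1) : A φ ≤ M ∨ B φ ≤ M := by
  obtain ⟨g, hg1, hgp, j, hj, _⟩ := exists_lift hH hm hm1 (hM m hmM)
  have hgM : g ∈ M.comap φ := by
    rw [Subgroup.mem_comap, hj]; exact M.pow_mem hmM j
  rcases torus hH.two (M.comap φ) (by
      intro a b x hx
      rw [Subgroup.mem_comap] at hx ⊢
      rw [map_mul, map_mul, map_inv]
      exact hMH _ (mem_Ht.mpr ⟨a, b, rfl⟩) _ hx) hgM hg1 hgp with h | h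
  · left
    intro x hx
    obtain ⟨c, rfl⟩ := mem_A.mp hx
    exact h c
  · right
    intro x hx
    obtain ⟨c, rfl⟩ := mem_B.mp hx
    exact h c

/-- a subgroup of `C(t)` containing `A φ` but not `t` lies in the Borel subgroup. -/
theorem borel_of_not_mem (hH : Hyp φ n) (M : Subgroup G) (hM : ∀ m ∈ M, m * tt φ = tt φ * m)
    (ht : tt φ ∉ M) (hA : A φ ≤ M) {m : G} (hm : m ∈ M) : ∃ x ∈ A φ, ∃ h ∈ Ht φ, m = x * h := by
  obtain ⟨g, rfl⟩ := hH.cent m (hM m hm)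
  have h10 := upper_of_not_mem (M.comap φ) ht (fun c => hA (mem_A.mpr ⟨c, rfl⟩)) hm
  obtain ⟨x, a, b, rfl⟩ := eq_UT g h10
  exact ⟨_, mem_A.mpr ⟨x, rfl⟩, _, mem_Ht.mpr ⟨a, b, rfl⟩, map_mul _ _ _⟩

/-- centralizer of a root element in `C(t)`. -/
theorem mem_AZ (hH : Hyp φ n) {x g : G} (hx : x ∈ A φ) (hx1 : x ≠ 1) (h0 : g * tt φ = tt φ * g)
    (h1 : g * x = x * g) : ∃ y ∈ A φ, ∃ z ∈ Zc φ, g = y * z := by
  obtain ⟨c, rfl⟩ := mem_A.mp hx
  have hc : c ≠ 0 := by rintro rfl; exact hx1 (by rw [U_zero, map_one])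
  obtain ⟨g, rfl⟩ := hH.cent g h0
  obtain ⟨y, a, rfl⟩ := of_comm_U hc (hH.comm_lift h1)
  exact ⟨_, mem_A.mpr ⟨y, rfl⟩, _, mem_Zc.mpr ⟨a, rfl⟩, map_mul _ _ _⟩

theorem Ht_comm_A (hH : Hyp φ n) {x h : G} (hx : x ∈ A φ) (hx1 : x ≠ 1) (hh : h ∈ Ht φ)
    (h1 : h * x = x * h) : h ∈ Zc φ := by
  obtain ⟨c, rfl⟩ := mem_A.mp hx
  have hc : c ≠ 0 := by rintro rfl; exact hx1 (by rw [U_zero, map_one])
  obtain ⟨a, b, rfl⟩ := mem_Ht.mp hh
  have := T_comm_U hc (hH.comm_lift h1)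
  rw [this]
  exact mem_Zc.mpr ⟨b, rfl⟩

theorem Zc_comm {z : G} (hz : z ∈ Zc φ) (g : GL (Fin 2) F) : z * φ g = φ g * z := by
  obtain ⟨a, rfl⟩ := mem_Zc.mp hz
  rw [← map_mul, ← map_mul, T_self_comm]

theorem Zc_le_Ht : Zc φ ≤ Ht φ := by
  intro z hz
  obtain ⟨a, rfl⟩ := mem_Zc.mp hz
  exact mem_Ht.mpr ⟨a, a, rfl⟩

theorem tt_mem_Zc : tt φ ∈ Zc φ := mem_Zc.mpr ⟨_, rfl⟩

/-- `A ∩ H = 1`. -/
theorem A_inf_Ht (hH : Hyp φ n) {x : G} (hx : x ∈ A φ) (hx' : x ∈ Ht φ) : x = 1 := by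
  obtain ⟨c, rfl⟩ := mem_A.mp hx
  obtain ⟨a, b, hab⟩ := mem_Ht.mp hx'
  have h1 : φ (T a b * (U c)⁻¹) = 1 := by rw [map_mul, hab, map_inv, mul_inv_cancel]
  obtain ⟨d, hd⟩ := hH.ker_T h1
  have h2 : T a b = T d d * U c := by rw [← hd]; group
  have h3 := congrArg (fun k : GL (Fin 2) F => k.1 0 1) h2
  simp only [mul_val, T_00, T_01, U_01, U_11, zero_mul, add_zero] at h3
  have h4 : c = 0 := by
    have h5 : (d : F) ≠ 0 := d.ne_zero
    exact (mul_eq_zero.mp h3.symm).resolve_left h5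
  rw [h4, U_zero, map_one]

theorem Ht_pow [Finite F] {h : G} (hh : h ∈ Ht φ) : h ^ (Nat.card F - 1) = 1 := by
  obtain ⟨a, b, rfl⟩ := mem_Ht.mp hh
  have h1 : ∀ u : Fˣ, u ^ (Nat.card F - 1) = 1 := by
    intro u
    have := pow_card_eq_one' (x := u)
    rwa [Nat.card_units] at this
  have h2 : ∀ m : ℕ, T a b ^ m = T (a ^ m) (b ^ m) := by
    intro m
    induction m with
    | zero => simp [T_one]
    | succ m ih => rw [pow_succ, ih, T_mul, pow_succ, pow_succ]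
  rw [← map_pow, h2, h1, h1, T_one, map_one]

theorem Ht_pelt [Finite F] {p : ℕ} [hp : Fact p.Prime] [CharP F p] {h : G} (hh : h ∈ Ht φ)
    {k : ℕ} (hk : h ^ p ^ k = 1) : h = 1 := by
  have h1 := Ht_pow hh
  have hq : p ∣ Nat.card F := by
    have : Fintype F := Fintype.ofFinite F
    obtain ⟨m, _, hm⟩ := FiniteField.card F p
    rw [Nat.card_eq_fintype_card, hm]
    exact dvd_pow_self p m.ne_zero
  have hpos : 0 < Nat.card F := Nat.card_pos
  have hcop : Nat.Coprime (p ^ k) (Nat.card F - 1) := by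
    apply Nat.Coprime.pow_left
    rw [Nat.Prime.coprime_iff_not_dvd hp.out]
    intro h2
    have h3 := Nat.dvd_sub hq h2
    have h4 : Nat.card F - (Nat.card F - 1) = 1 := by omega
    rw [h4] at h3
    exact hp.out.one_lt.ne' (Nat.dvd_one.mp h3)
  have h3 : orderOf h ∣ Nat.gcd (p ^ k) (Nat.card F - 1) :=
    Nat.dvd_gcd (orderOf_dvd_of_pow_eq_one hk) (orderOf_dvd_of_pow_eq_one h1)
  rw [hcop] at h3
  exact orderOf_eq_one_iff.mp (Nat.dvd_one.mp h3)

theorem mul_pow_mem {y h : G} (hy : y ∈ A φ) (hh : h ∈ Ht φ) (m : ℕ) :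
    ∃ y' ∈ A φ, (y * h) ^ m = y' * h ^ m := by
  induction m with
  | zero => exact ⟨1, (A φ).one_mem, by simp⟩
  | succ m ih =>
    obtain ⟨y', hy', e⟩ := ih
    refine ⟨y' * (h ^ m * y * (h ^ m)⁻¹), (A φ).mul_mem hy' (conj_A ((Ht φ).pow_mem hh m) hy), ?_⟩
    rw [pow_succ, e, pow_succ]; group

/-- `p`-elements of the Borel subgroup lie in the root group. -/
theorem borel_pelt (hH : Hyp φ n) [Finite F] {p : ℕ} [hp : Fact p.Prime] [CharP F p] {y h : G}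
    (hy : y ∈ A φ) (hh : h ∈ Ht φ) {k : ℕ} (hk : (y * h) ^ p ^ k = 1) : h = 1 := by
  obtain ⟨y', hy', e⟩ := mul_pow_mem hy hh (p ^ k)
  rw [hk] at e
  have h1 : h ^ p ^ k = y'⁻¹ := by rw [eq_comm, inv_eq_iff_mul_eq_one]; exact e.symm
  have h2 : h ^ p ^ k = 1 := by
    refine A_inf_Ht hH (n := n) ?_ ((Ht φ).pow_mem hh _)
    rw [h1]; exact (A φ).inv_mem hy'
  exact Ht_pelt hh h2

end Cfsg.Agent.Classification.IdL3.SetupTwo
end

-- part: Classification/IdL3/Core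
section
/-!
The centralizer of a nonempty set of root elements is `K * Zc`, `K` the set of its elements of odd order.
-/

set_option autoImplicit false
set_option linter.unusedSimpArgs false

namespace Cfsg.Agent.Classification.IdL3.Core

open Matrix
open scoped MatrixGroups
open Cfsg.Agent.Classification.IdL3.Mat
open Cfsg.Agent.Classification.IdL3.MatTwo
open Cfsg.Agent.Classification.IdL3.MatThree
open Cfsg.Agent.Classification.IdL3.Setup
open Cfsg.Agent.Classification.IdL3.SetupTwo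

/-- A cyclic Sylow `2`-subgroup has a normal complement, the set of elements of odd order. -/
theorem exists_odd_core {C : Type*} [Group C] [Finite C] (S : Sylow 2 C) (hS : IsCyclic S) :
    ∃ K : Subgroup C, (∀ g, g ∈ K ↔ Odd (orderOf g)) ∧
      ∀ g, ∃ k ∈ K, ∃ s ∈ (S : Subgroup C), g = k * s := by
  by_cases h2 : 2 ∣ Nat.card C
  · have hmin : (Nat.card C).minFac = 2 := by
      rw [Nat.minFac_eq_two_iff]; exact h2
    have hn := hS.normalizer_le_centralizer hmin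
    have hcomp := hS.isComplement' hmin
    refine ⟨(MonoidHom.transferSylow S hn).ker, ?_, ?_⟩
    · intro g
      constructor
      · intro hg
        have h1 : Odd (Nat.card (MonoidHom.transferSylow S hn).ker) := by
          rw [← Nat.not_even_iff_odd, even_iff_two_dvd]
          exact MonoidHom.not_dvd_card_ker_transferSylow S hn
        have h3 : orderOf (⟨g, hg⟩ : (MonoidHom.transferSylow S hn).ker) ∣ _ :=
          orderOf_dvd_natCard _
        rw [Subgroup.orderOf_mk] at h3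
        exact Odd.of_dvd_nat h1 h3
      · intro hg
        rw [MonoidHom.mem_ker]
        have h1 : orderOf (MonoidHom.transferSylow S hn g) ∣ orderOf g := orderOf_map_dvd _ g
        have h3 : orderOf (MonoidHom.transferSylow S hn g) ∣ Nat.card S := orderOf_dvd_natCard _
        obtain ⟨k, hk⟩ := S.isPGroup'.exists_card_eq
        rw [hk] at h3
        have h4 : Nat.Coprime (orderOf g) (2 ^ k) := by
          apply Nat.Coprime.pow_right
          exact Nat.Coprime.symm ((Nat.coprime_two_left).mpr hg)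
        have h5 := Nat.dvd_gcd h1 h3
        rw [h4] at h5
        exact orderOf_eq_one_iff.mp (Nat.dvd_one.mp h5)
    · intro g
      obtain ⟨⟨k, s⟩, hks⟩ := hcomp.2 g
      exact ⟨k, k.2, s, s.2, hks.symm⟩
  · refine ⟨⊤, ?_, ?_⟩
    · intro g
      refine ⟨fun _ => ?_, fun _ => Subgroup.mem_top _⟩
      have h1 : Odd (Nat.card C) := by
        rw [← Nat.not_even_iff_odd, even_iff_two_dvd]; exact h2
      exact Odd.of_dvd_nat h1 (orderOf_dvd_natCard g)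
    · intro g
      exact ⟨g, Subgroup.mem_top _, 1, one_mem _, (mul_one g).symm⟩

variable {F : Type*} [Field F] {G : Type*} [Group G] {φ : GL (Fin 2) F →* G} {n : G}

/-- `K` is the odd core of `C`, `C = K Zc`. -/
structure Core (φ : GL (Fin 2) F →* G) (C K : Subgroup G) : Prop where
  le : K ≤ C
  mem : ∀ g, g ∈ K ↔ g ∈ C ∧ Odd (orderOf g)
  dec : ∀ g ∈ C, ∃ k ∈ K, ∃ z ∈ Zc φ, g = k * z
  inv : ∀ u ∈ C, u * u = 1 → u ≠ 1 → ∃ c ∈ C, c * u * c⁻¹ = tt φ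

/-- unique involution of `Zc`. -/
theorem Zc_inv (hH : Hyp φ n) {z : G} (hz : z ∈ Zc φ) (h2 : z * z = 1) (h1 : z ≠ 1) :
    z = tt φ := by
  obtain ⟨a, rfl⟩ := mem_Zc.mp hz
  set N := Nat.card φ.ker with hN
  have hker : T a a * T a a ∈ φ.ker := by rw [MonoidHom.mem_ker, map_mul, h2]
  have h3 : (T a a * T a a) ^ N = 1 := by
    have h1 : (⟨T a a * T a a, hker⟩ : φ.ker) ^ Nat.card φ.ker = 1 := pow_card_eq_one'
    exact congrArg Subtype.val h1
  have h4 : ∀ m : ℕ, T a a ^ m = T (a ^ m) (a ^ m) := by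
    intro m
    induction m with
    | zero => simp [T_one]
    | succ m ih => rw [pow_succ, ih, T_mul, pow_succ]
  rw [← pow_two, ← pow_mul, mul_comm, pow_mul, h4 N, pow_two, T_mul] at h3
  have h5 := congrArg (fun k : GL (Fin 2) F => k.1 0 0) h3
  simp only [T_00, one_00, Units.val_mul] at h5
  have h6 : ((a ^ N : Fˣ) : F) = 1 ∨ ((a ^ N : Fˣ) : F) = -1 := mul_self_eq_one_iff.mp h5
  have h7 : φ (T a a) = φ (T (a ^ N) (a ^ N)) := by
    rw [← h4, map_pow]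
    obtain ⟨m, hm⟩ := hH.ker_o
    rw [hN, hm, pow_succ, pow_mul, pow_two, h2, one_pow, one_mul]
  rcases h6 with h6 | h6
  · have : a ^ N = 1 := Units.ext h6
    rw [this, T_one, map_one] at h7
    exact absurd h7 h1
  · have : a ^ N = -1 := Units.ext h6
    rw [h7, this, tt]

theorem odd_card_of_forall [Finite G] {K : Subgroup G} (h : ∀ g ∈ K, Odd (orderOf g)) :
    Odd (Nat.card K) := by
  rw [← Nat.not_even_iff_odd, even_iff_two_dvd]
  intro h2
  obtain ⟨⟨g, hg⟩, ho⟩ := exists_prime_orderOf_dvd_card' 2 h2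
  rw [Subgroup.orderOf_mk] at ho
  have := h g hg
  rw [ho] at this
  exact absurd this (by decide)

theorem Core.odd [Finite G] {C K : Subgroup G} (h : Core φ C K) : Odd (Nat.card K) :=
  odd_card_of_forall fun g hg => ((h.mem g).mp hg).2

theorem Core.conj {C K : Subgroup G} (h : Core φ C K) {g : G} (hg : ∀ c ∈ C, g * c * g⁻¹ ∈ C)
    {k : G} (hk : k ∈ K) : g * k * g⁻¹ ∈ K := by
  rw [h.mem]
  have h1 := (h.mem k).mp hk
  refine ⟨hg k h1.1, ?_⟩
  have : orderOf (g * k * g⁻¹) = orderOf k := by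
    have := orderOf_injective (MulAut.conj g).toMonoidHom (MulAut.conj g).injective k
    exact this
  rw [this]; exact h1.2

theorem Zc_cyclic [Finite F] : IsCyclic (Zc φ) := by
  let f : Fˣ →* Zc φ :=
    { toFun := fun a => ⟨φ (T a a), mem_Zc.mpr ⟨a, rfl⟩⟩
      map_one' := Subtype.ext (by show φ (T 1 1) = 1; rw [T_one, map_one])
      map_mul' := fun a b => Subtype.ext (by
        show φ (T (a * b) (a * b)) = φ (T a a) * φ (T b b)
        rw [← map_mul, T_mul]) }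
  refine isCyclic_of_surjective f ?_
  rintro ⟨z, hz⟩
  obtain ⟨a, rfl⟩ := mem_Zc.mp hz
  exact ⟨a, rfl⟩

theorem comm_AZ {x z : G} (hx : x ∈ A φ) (hz : z ∈ Zc φ) : x * z = z * x := by
  obtain ⟨c, rfl⟩ := mem_A.mp hx
  exact (Zc_comm hz _).symm

/-- `2`-elements of `A Zc` lie in `Zc`. -/
theorem two_elt (hH : Hyp φ n) {p : ℕ} [hp : Fact p.Prime] [CharP F p] {y z : G}
    (hy : y ∈ A φ) (hz : z ∈ Zc φ) {k : ℕ} (h : (y * z) ^ 2 ^ k = 1) : y = 1 := by
  have hc : Commute y z := comm_AZ hy hz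
  rw [hc.mul_pow] at h
  have h1 : y ^ 2 ^ k = (z ^ 2 ^ k)⁻¹ := eq_inv_of_mul_eq_one_left h
  have h2 : y ^ 2 ^ k = 1 := by
    refine A_inf_Ht hH ((A φ).pow_mem hy _) ?_
    rw [h1]
    exact (Ht φ).inv_mem ((Ht φ).pow_mem (Zc_le_Ht hz) _)
  have hp2 : p ≠ 2 := by
    rintro rfl
    exact hH.two (by exact_mod_cast CharP.cast_eq_zero F 2)
  have h3 : y ^ p = 1 := A_pow hy
  have hcop : Nat.Coprime (2 ^ k) p :=
    Nat.Coprime.pow_left k ((Nat.coprime_primes Nat.prime_two hp.out).mpr (Ne.symm hp2))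
  have h4 : orderOf y ∣ Nat.gcd (2 ^ k) p :=
    Nat.dvd_gcd (orderOf_dvd_of_pow_eq_one h2) (orderOf_dvd_of_pow_eq_one h3)
  rw [hcop] at h4
  exact orderOf_eq_one_iff.mp (Nat.dvd_one.mp h4)

theorem exists_core [Finite G] [Finite F] (hH : Hyp φ n) {p : ℕ} [hp : Fact p.Prime] [CharP F p]
    {Y : Set G} (hY : Y ⊆ A φ) {x : G} (hxY : x ∈ Y) (hx1 : x ≠ 1) :
    ∃ K : Subgroup G, Core φ (Subgroup.centralizer Y) K := by
  set C := Subgroup.centralizer Y with hC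
  have hxA : x ∈ A φ := hY hxY
  have htC : tt φ ∈ C := by
    rw [hC, Subgroup.mem_centralizer_iff]
    intro y hy
    exact tt_comm_A (hY hy)
  have hCx : ∀ c ∈ C, c * x = x * c := by
    intro c hc
    exact ((Subgroup.mem_centralizer_iff.mp hc) x hxY).symm
  -- a Sylow subgroup containing `t`
  have hz : IsPGroup 2 (Subgroup.zpowers (⟨tt φ, htC⟩ : C)) := by
    refine IsPGroup.of_card (n := 1) ?_
    rw [pow_one, Nat.card_zpowers, Subgroup.orderOf_mk, orderOf_eq_prime_iff]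
    exact ⟨by rw [pow_two]; exact tt_sq φ, hH.tt_ne⟩
  obtain ⟨S, hS⟩ := hz.exists_le_sylow
  have htS : (⟨tt φ, htC⟩ : C) ∈ (S : Subgroup C) := hS (Subgroup.mem_zpowers _)
  have hSne : Nontrivial S := by
    refine ⟨⟨⟨_, htS⟩, 1, ?_⟩⟩
    intro h
    exact hH.tt_ne (congrArg (fun y : S => ((y : C) : G)) h)
  -- a central involution of `S`
  have hcen : Nontrivial (Subgroup.center S) := S.isPGroup'.center_nontrivial
  have h2c : 2 ∣ Nat.card (Subgroup.center S) :=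
    (S.isPGroup'.to_subgroup _).card_eq_or_dvd.resolve_left (by
      intro h
      have := Finite.one_lt_card_iff_nontrivial.mpr hcen
      omega)
  obtain ⟨⟨z, hzc⟩, hzo⟩ := exists_prime_orderOf_dvd_card' 2 h2c
  rw [Subgroup.orderOf_mk] at hzo
  have hzo' : orderOf ((z : C) : G) = 2 := by
    rw [Subgroup.orderOf_coe, Subgroup.orderOf_coe]; exact hzo
  have hzz : ((z : C) : G) * ((z : C) : G) = 1 := by
    have := pow_orderOf_eq_one ((z : C) : G)
    rwa [hzo', pow_two] at this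
  have hz1 : ((z : C) : G) ≠ 1 := by
    intro h
    rw [h, orderOf_one] at hzo'
    exact absurd hzo' (by decide)
  have hzt : ((z : C) : G) * tt φ = tt φ * ((z : C) : G) := by
    have h1 := (Subgroup.mem_center_iff.mp hzc) ⟨_, htS⟩
    exact (congrArg (fun y : S => ((y : C) : G)) h1).symm
  have hzeq : ((z : C) : G) = tt φ := by
    obtain ⟨y, hy, c, hc, e⟩ := mem_AZ hH hxA hx1 hzt (hCx _ (z : C).2)
    have hy1 : y = 1 := two_elt hH (p := p) hy hc (k := 1) (by rw [pow_one, pow_two, ← e, hzz])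
    rw [hy1, one_mul] at e
    rw [e] at hzz hz1 ⊢
    exact Zc_inv hH hc hzz hz1
  -- `S ≤ Zc`
  have hSZ : ∀ s : C, s ∈ (S : Subgroup C) → (s : G) ∈ Zc φ := by
    intro s hs
    have hst : (s : G) * tt φ = tt φ * (s : G) := by
      have h1 := (Subgroup.mem_center_iff.mp hzc) ⟨s, hs⟩
      have h3 := congrArg (fun y : S => ((y : C) : G)) h1
      simp only [Subgroup.coe_mul] at h3
      rwa [hzeq] at h3
    obtain ⟨y, hy, c, hc, e⟩ := mem_AZ hH hxA hx1 hst (hCx _ s.2)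
    obtain ⟨k, hk⟩ := S.isPGroup' ⟨s, hs⟩
    have hk' : (s : G) ^ 2 ^ k = 1 := congrArg (fun y : S => ((y : C) : G)) hk
    have hy1 : y = 1 := two_elt hH (p := p) hy hc (k := k) (by rw [← e, hk'])
    rw [e, hy1, one_mul]; exact hc
  have hScyc : IsCyclic S := by
    have := Zc_cyclic (φ := φ)
    let f : S →* Zc φ :=
      { toFun := fun s => ⟨((s : C) : G), hSZ s s.2⟩
        map_one' := rfl
        map_mul' := fun _ _ => rfl }
    refine isCyclic_of_injective f ?_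
    intro a b h
    exact Subtype.ext (Subtype.ext (congrArg (fun y : Zc φ => (y : G)) h))
  obtain ⟨K, hK1, hK2⟩ := exists_odd_core S hScyc
  refine ⟨K.map C.subtype, Subgroup.map_subtype_le K, ?_, ?_, ?_⟩
  · intro g
    constructor
    · rintro ⟨k, hk, rfl⟩
      refine ⟨k.2, ?_⟩
      have h1 := (hK1 k).mp hk
      rw [← Subgroup.orderOf_coe] at h1
      exact h1
    · rintro ⟨hg, ho⟩
      refine ⟨⟨g, hg⟩, (hK1 _).mpr ?_, rfl⟩
      rw [Subgroup.orderOf_mk]; exact ho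
  · intro g hg
    obtain ⟨k, hk, s, hs, e⟩ := hK2 ⟨g, hg⟩
    exact ⟨k, ⟨k, hk, rfl⟩, s, hSZ s hs, congrArg Subtype.val e⟩
  · intro u hu hu2 hu1
    have hup : IsPGroup 2 (Subgroup.zpowers (⟨u, hu⟩ : C)) := by
      refine IsPGroup.of_card (n := 1) ?_
      rw [pow_one, Nat.card_zpowers, Subgroup.orderOf_mk, orderOf_eq_prime_iff]
      exact ⟨by rw [pow_two]; exact hu2, hu1⟩
    obtain ⟨S', hS'⟩ := hup.exists_le_sylow
    have huS : (⟨u, hu⟩ : C) ∈ (S' : Subgroup C) := hS' (Subgroup.mem_zpowers _)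
    obtain ⟨c, hc⟩ := MulAction.exists_smul_eq C S' S
    have h1 : c * ⟨u, hu⟩ * c⁻¹ ∈ (S : Subgroup C) := by
      rw [← hc]
      exact ⟨_, huS, rfl⟩
    have h3 := hSZ _ h1
    have e1 : ((c * ⟨u, hu⟩ * c⁻¹ : C) : G) = (c : G) * u * (c : G)⁻¹ := rfl
    rw [e1] at h3
    refine ⟨c, c.2, Zc_inv hH h3 ?_ ?_⟩
    · have : (c : G) * u * (c : G)⁻¹ * ((c : G) * u * (c : G)⁻¹) = (c : G) * (u * u) * (c : G)⁻¹ := by
        group
      rw [this, hu2]; group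
    · intro h
      apply hu1
      have : u = (c : G)⁻¹ * ((c : G) * u * (c : G)⁻¹) * c := by group
      rw [this, h]; group

end Cfsg.Agent.Classification.IdL3.Core
end

-- part: Classification/IdL3/Local
section
/-!
Local analysis: root groups commuting with `A φ`.
-/

set_option autoImplicit false
set_option linter.unusedSimpArgs false

namespace Cfsg.Agent.Classification.IdL3.Local

open Matrix
open scoped MatrixGroups
open Cfsg.Agent.Classification.IdL3.Mat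
open Cfsg.Agent.Classification.IdL3.MatTwo
open Cfsg.Agent.Classification.IdL3.MatThree
open Cfsg.Agent.Classification.IdL3.Setup
open Cfsg.Agent.Classification.IdL3.SetupTwo
open Cfsg.Agent.Classification.IdL3.Core

variable {F : Type*} [Field F] {G : Type*} [Group G] {φ : GL (Fin 2) F →* G} {n : G}

/-- the diagonal four-group. -/
def Dsub (F : Type*) [Field F] : Subgroup (GL (Fin 2) F) where
  carrier := {g | ∃ a b : Fˣ, a * a = 1 ∧ b * b = 1 ∧ g = T a b}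
  mul_mem' := by
    rintro _ _ ⟨a, b, ha, hb, rfl⟩ ⟨a', b', ha', hb', rfl⟩
    refine ⟨a * a', b * b', ?_, ?_, T_mul a b a' b'⟩
    · rw [mul_mul_mul_comm, ha, ha', one_mul]
    · rw [mul_mul_mul_comm, hb, hb', one_mul]
  one_mem' := ⟨1, 1, by simp, by simp, T_one.symm⟩
  inv_mem' := by
    rintro _ ⟨a, b, ha, hb, rfl⟩
    refine ⟨a⁻¹, b⁻¹, ?_, ?_, T_inv a b⟩
    · rw [← mul_inv, ha, inv_one]
    · rw [← mul_inv, hb, inv_one]

/-- the diagonal four-group in `G`. -/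
def Dv (φ : GL (Fin 2) F →* G) : Subgroup G := (Dsub F).map φ

theorem mem_Dv {s s' x : G} (h : Pair φ s s') (hx : x ∈ Dv φ) :
    x = 1 ∨ x = tt φ ∨ x = s ∨ x = s' := by
  obtain ⟨_, ⟨a, b, ha, hb, rfl⟩, rfl⟩ := hx
  have key : ∀ a : Fˣ, a * a = 1 → a = 1 ∨ a = -1 := by
    intro a ha
    have h1 : (a : F) * a = 1 := by
      rw [← Units.val_mul, ha, Units.val_one]
    rcases mul_self_eq_one_iff.mp h1 with h | h
    · exact Or.inl (Units.ext h)
    · exact Or.inr (Units.ext h)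
  rcases key a ha with rfl | rfl <;> rcases key b hb with rfl | rfl
  · left; rw [T_one, map_one]
  · rcases h with ⟨h1, h2⟩ | ⟨h1, h2⟩
    · right; right; left; exact h1.symm
    · right; right; right; exact h2.symm
  · rcases h with ⟨h1, h2⟩ | ⟨h1, h2⟩
    · right; right; right; exact h2.symm
    · right; right; left; exact h1.symm
  · right; left; rfl

theorem Dv_le_Ht : Dv φ ≤ Ht φ := by
  rintro _ ⟨_, ⟨a, b, _, _, rfl⟩, rfl⟩
  exact mem_Ht.mpr ⟨a, b, rfl⟩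

theorem tt_mem_Dv : tt φ ∈ Dv φ := ⟨_, ⟨-1, -1, by simp, by simp, rfl⟩, rfl⟩

theorem pair_mem_Dv {s s' : G} (h : Pair φ s s') : s ∈ Dv φ := by
  rcases h with ⟨h1, _⟩ | ⟨h1, _⟩
  · rw [h1]; exact ⟨_, ⟨1, -1, by simp, by simp, rfl⟩, rfl⟩
  · rw [h1]; exact ⟨_, ⟨-1, 1, by simp, by simp, rfl⟩, rfl⟩

theorem Dv_pgroup : IsPGroup 2 (Dv φ) := by
  rintro ⟨_, _, ⟨a, b, ha, hb, rfl⟩, rfl⟩
  refine ⟨1, Subtype.ext ?_⟩
  show φ (T a b) ^ 2 ^ 1 = 1
  rw [pow_one, pow_two, ← map_mul, T_mul, ha, hb, T_one, map_one]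

theorem A_pgroup {p : ℕ} [CharP F p] : IsPGroup p (A φ) := by
  rintro ⟨x, hx⟩
  exact ⟨1, Subtype.ext (by show x ^ p ^ 1 = 1; rw [pow_one]; exact A_pow hx)⟩

theorem B_pgroup {p : ℕ} [CharP F p] : IsPGroup p (B φ) := by
  rw [← A_fl]; exact A_pgroup

theorem p_ne_two (hH : Hyp φ n) {p : ℕ} [CharP F p] : p ≠ 2 := by
  rintro rfl
  exact hH.two (by exact_mod_cast CharP.cast_eq_zero F 2)

/-- `p`-elements of `K` are conjugate into a Sylow subgroup. -/
theorem sylow_conj_mem {K S : Subgroup G} [Finite G] {p : ℕ} [Fact p.Prime]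
    (hS : ∃ T : Sylow p K, (T : Subgroup K).map K.subtype = S) {g : G} (hg : g ∈ K) {k : ℕ}
    (hgp : g ^ p ^ k = 1) : ∃ c ∈ K, c * g * c⁻¹ ∈ S := by
  obtain ⟨T, rfl⟩ := hS
  have hz : IsPGroup p (Subgroup.zpowers (⟨g, hg⟩ : K)) := by
    rintro ⟨x, m, rfl⟩
    refine ⟨k, Subtype.ext (Subtype.ext ?_)⟩
    show (g ^ m) ^ p ^ k = 1
    rw [← zpow_natCast, ← _root_.zpow_mul, mul_comm, _root_.zpow_mul, zpow_natCast, hgp, _root_.one_zpow]
  obtain ⟨T', hT'⟩ := hz.exists_le_sylow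
  obtain ⟨c, hc⟩ := MulAction.exists_smul_eq K T' T
  refine ⟨c, c.2, ?_⟩
  have h1 : c * ⟨g, hg⟩ * c⁻¹ ∈ (T : Subgroup K) := by
    rw [← hc]
    exact ⟨_, hT' (Subgroup.mem_zpowers _), rfl⟩
  exact ⟨_, h1, rfl⟩

theorem sylow_pelt {K S : Subgroup G} {p : ℕ}
    (hS : ∃ T : Sylow p K, (T : Subgroup K).map K.subtype = S) {s : G} (hs : s ∈ S) :
    ∃ k : ℕ, s ^ p ^ k = 1 := by
  obtain ⟨T, rfl⟩ := hS
  obtain ⟨x, hx, rfl⟩ := hs
  obtain ⟨k, hk⟩ := T.isPGroup' ⟨x, hx⟩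
  exact ⟨k, congrArg (fun y : T => ((y : K) : G)) hk⟩

theorem sylow_le {K S : Subgroup G} {p : ℕ}
    (hS : ∃ T : Sylow p K, (T : Subgroup K).map K.subtype = S) : S ≤ K := by
  obtain ⟨T, rfl⟩ := hS
  exact Subgroup.map_subtype_le _

/-- `C(A)` is normalised by `Ht`. -/
theorem Ht_conj_C {h c : G} (hh : h ∈ Ht φ) (hc : c ∈ Subgroup.centralizer (A φ : Set G)) :
    h * c * h⁻¹ ∈ Subgroup.centralizer (A φ : Set G) := by
  rw [Subgroup.mem_centralizer_iff] at hc ⊢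
  intro x hx
  have h1 : h⁻¹ * x * h ∈ A φ := by
    have := conj_A ((Ht φ).inv_mem hh) hx
    rwa [inv_inv] at this
  have h2 := hc _ h1
  have h3 : x * (h * c * h⁻¹) = h * (h⁻¹ * x * h * c) * h⁻¹ := by group
  rw [h3, h2]; group

section P1

variable {p : ℕ} [hp : Fact p.Prime] [CharP F p] {K : Subgroup G}

theorem odd_p (hH : Hyp φ n) : Odd p := hp.out.odd_of_ne_two (p_ne_two hH)

theorem A_le_core (p : ℕ) [Fact p.Prime] [CharP F p] (hH : Hyp φ n) (hK : Core φ (Subgroup.centralizer (A φ : Set G)) K) :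
    A φ ≤ K := by
  intro x hx
  rw [hK.mem]
  refine ⟨Subgroup.mem_centralizer_iff.mpr fun y hy => A_comm hy hx, ?_⟩
  exact Odd.of_dvd_nat (odd_p (p := p) hH) (orderOf_dvd_of_pow_eq_one (A_pow hx))

/-- `p`-elements of `C(A) ∩ C(t)` lie in `A`. -/
theorem mem_A_of_pelt (hH : Hyp φ n) [Finite F] {y x : G} (hx : x ∈ A φ) (hx1 : x ≠ 1)
    (h0 : y * tt φ = tt φ * y) (h1 : y * x = x * y) {k : ℕ} (hk : y ^ p ^ k = 1) : y ∈ A φ := by
  obtain ⟨a, ha, z, hz, rfl⟩ := mem_AZ hH hx hx1 h0 h1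
  have := borel_pelt hH ha (Zc_le_Ht hz) hk
  rw [this, mul_one]; exact ha

theorem exists_A_ne (hH : Hyp φ n) : ∃ x ∈ A φ, x ≠ 1 := by
  refine ⟨φ (U 1), mem_A.mpr ⟨1, rfl⟩, ?_⟩
  intro h
  have h1 : φ (U 1) = φ (U (0 : F)) := by rw [h, U_zero, map_one]
  exact one_ne_zero (hH.U_inj h1)

theorem Ht_conj_A' {h x : G} (hh : h ∈ Ht φ) (hx : x ∈ A φ) : h * x * h⁻¹ ∈ A φ := conj_A hh hx

/-- A `D`-invariant Sylow `p`-subgroup of the core. -/
theorem exists_inv_sylow [Finite G] (hK : Core φ (Subgroup.centralizer (A φ : Set G)) K)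
    {R : Subgroup G} (hRK : R ≤ K) (hR : IsPGroup p R)
    (hDR : ∀ b ∈ Dv φ, ∀ u ∈ R, b * u * b⁻¹ ∈ R) :
    ∃ S : Subgroup G, (∃ T : Sylow p K, (T : Subgroup K).map K.subtype = S) ∧
      (∀ b ∈ Dv φ, ∀ u ∈ S, b * u * b⁻¹ ∈ S) ∧ R ≤ S := by
  refine Lib.PGroupCoprimeAction.exists_invariant_sylow_ge Dv_pgroup ?_ ?_ hRK hR hDR
  · intro h2
    exact (Nat.not_even_iff_odd.mpr hK.odd) (even_iff_two_dvd.mpr h2)
  · intro b hb u hu
    exact hK.conj (fun c hc => Ht_conj_C (Dv_le_Ht hb) hc) hu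

/-- `K ∩ C(s)` for `s = n t n⁻¹`. -/
theorem rel_of_pelt [Finite G] [Finite F] (hH : Hyp φ n)
    (hK : Core φ (Subgroup.centralizer (A φ : Set G)) K) {y : G} (hy : y ∈ K) (hy1 : y ≠ 1)
    {k : ℕ} (hk : y ^ p ^ k = 1)
    (hc : y * (n * tt φ * n⁻¹) = (n * tt φ * n⁻¹) * y) : Ra φ n ∨ Rb φ n := by
  set M : Subgroup G := K ⊓ Subgroup.centralizer {n * tt φ * n⁻¹} with hM
  have hmemM : ∀ m ∈ M, m * tt (cφ n φ) = tt (cφ n φ) * m := by
    intro m hm
    exact (Subgroup.mem_centralizer_singleton_iff.mp hm.2)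
  have hMH : ∀ h ∈ Ht (cφ n φ), ∀ m ∈ M, h * m * h⁻¹ ∈ M := by
    intro h hh m hm
    rw [hH.Ht_rot] at hh
    refine ⟨hK.conj (fun c hc => Ht_conj_C hh hc) hm.1, ?_⟩
    refine Subgroup.mem_centralizer_singleton_iff.mpr ?_
    have h1 := Ht_comm hh hH.pair.mem
    have h2 := Subgroup.mem_centralizer_singleton_iff.mp hm.2
    have h3 := Ht_comm ((Ht φ).inv_mem hh) hH.pair.mem
    set s := n * tt φ * n⁻¹ with hs
    calc h * m * h⁻¹ * s = h * m * (h⁻¹ * s) := by group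
      _ = h * (m * s) * h⁻¹ := by rw [h3]; group
      _ = (h * s) * m * h⁻¹ := by rw [h2]; group
      _ = s * (h * m * h⁻¹) := by rw [h1]; group
  have hyM : y ∈ M := ⟨hy, Subgroup.mem_centralizer_singleton_iff.mpr hc⟩
  rcases torus_G hH.rot M hmemM hMH hyM hy1 hk with h | h
  · left
    intro x hx z hz
    have h1 := hK.le (h hz).1
    exact Subgroup.mem_centralizer_iff.mp h1 x hx
  · right
    intro x hx z hz
    have h1 := hK.le (h hz).1
    exact Subgroup.mem_centralizer_iff.mp h1 x hx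

/-- Klein generation. -/
theorem le_of_D (hH : Hyp φ n) {S M : Subgroup G} (hodd : Odd (Nat.card S))
    (hS : ∀ b ∈ Dv φ, ∀ u ∈ S, b * u * b⁻¹ ∈ S)
    (h0 : ∀ u ∈ S, u * tt φ = tt φ * u → u ∈ M)
    (h1 : ∀ u ∈ S, u * (n * tt φ * n⁻¹) = (n * tt φ * n⁻¹) * u → u ∈ M)
    (h2 : ∀ u ∈ S, u * (n⁻¹ * tt φ * n) = (n⁻¹ * tt φ * n) * u → u ∈ M) : S ≤ M := by
  refine Lib.KleinGen.le_of_klein S M hodd (tt φ) (n * tt φ * n⁻¹) (tt_sq φ) hH.pair.sq ?_
    (hS _ tt_mem_Dv) (hS _ (pair_mem_Dv hH.pair)) ?_ ?_ ?_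
  · exact Ht_comm tt_mem_Ht hH.pair.mem
  · intro u hu
    exact h0 u hu.1 (Subgroup.mem_centralizer_singleton_iff.mp hu.2)
  · intro u hu
    exact h1 u hu.1 (Subgroup.mem_centralizer_singleton_iff.mp hu.2)
  · intro u hu
    refine h2 u hu.1 ?_
    have := (Subgroup.mem_centralizer_singleton_iff.mp hu.2)
    rwa [hH.pair.mul''] at this

theorem odd_of_sylow [Finite G] {K S : Subgroup G} (hKo : Odd (Nat.card K)) (h : S ≤ K) :
    Odd (Nat.card S) := Odd.of_dvd_nat hKo (Subgroup.card_dvd_of_le h)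

/-- First step. -/
theorem step_one [Finite G] [Finite F] (hH : Hyp φ n)
    (hK : Core φ (Subgroup.centralizer (A φ : Set G)) K) {g : G} (hg : g ∈ K) (hgA : g ∉ A φ)
    {k : ℕ} (hgp : g ^ p ^ k = 1) : Ra φ n ∨ Rb φ n ∨ Rb φ n⁻¹ := by
  obtain ⟨S, hSyl, hSD, hAS⟩ := exists_inv_sylow (p := p) hK (A_le_core p hH hK) A_pgroup
    (fun b hb u hu => conj_A (Dv_le_Ht hb) hu)
  obtain ⟨x, hx, hx1⟩ := exists_A_ne hH
  have hSK := sylow_le hSyl
  by_contra hcon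
  rw [not_or, not_or] at hcon
  obtain ⟨na, nb, nb'⟩ := hcon
  have hSA : S ≤ A φ := by
    refine le_of_D hH (odd_of_sylow hK.odd hSK) hSD ?_ ?_ ?_
    · intro u hu hc
      obtain ⟨k, hk⟩ := sylow_pelt hSyl hu
      have h1 := hK.le (hSK hu)
      exact mem_A_of_pelt hH hx hx1 hc (Subgroup.mem_centralizer_iff.mp h1 x hx).symm hk
    · intro u hu hc
      obtain ⟨k, hk⟩ := sylow_pelt hSyl hu
      by_cases hu1 : u = 1
      · rw [hu1]; exact (A φ).one_mem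
      · rcases rel_of_pelt hH hK (hSK hu) hu1 hk hc with h | h
        · exact absurd h na
        · exact absurd h nb
    · intro u hu hc
      obtain ⟨k, hk⟩ := sylow_pelt hSyl hu
      by_cases hu1 : u = 1
      · rw [hu1]; exact (A φ).one_mem
      · have hc' : u * (n⁻¹ * tt φ * n⁻¹⁻¹) = n⁻¹ * tt φ * n⁻¹⁻¹ * u := by rw [inv_inv]; exact hc
        rcases rel_of_pelt hH.inv hK (hSK hu) hu1 hk hc' with h | h
        · have := Ra.inv hH.inv h
          rw [inv_inv] at this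
          exact absurd this na
        · exact absurd h nb'
  obtain ⟨c, hc, hcg⟩ := sylow_conj_mem hSyl hg hgp
  have h1 := hSA hcg
  have h3 := Subgroup.mem_centralizer_iff.mp (hK.le hc) _ h1
  apply hgA
  have h4 : g = c⁻¹ * (c * g * c⁻¹ * c) := by group
  rw [h4, h3]
  have h5 : c⁻¹ * (c * (c * g * c⁻¹)) = c * g * c⁻¹ := by group
  rwa [h5]

end P1

end Cfsg.Agent.Classification.IdL3.Local
end
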